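import Mathlib

set_option autoImplicit false

namespace Cfsg.Agent.Lib.Helper64

open SemidirectProduct

/-- Every finite group has an isomorphic copy in `Type`. -/
theorem exists_type0_copy (H : Type*) [Group H] [Finite H] :
    ∃ (H' : Type) (_ : Group H') (_ : Finite H'), Nonempty (H ≃* H') := by
  obtain ⟨n, ⟨e⟩⟩ := Finite.exists_equiv_fin H
  let e' : {i : ℕ // i < n} ≃ H := (e.trans Fin.equivSubtype).symm
  let _ : Group {i : ℕ // i < n} := e'.group
  exact ⟨{i : ℕ // i < n}, inferInstance, inferInstance, ⟨(e'.mulEquiv).symm⟩⟩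

/-- In a semidirect product of an abelian group `N` of prime exponent `l` by `S`, such that no
element of prime order `≠ l` of `S` fixes a nontrivial element of `N`, every edge of the prime
graph comes from `S`. -/
theorem semidirect_adj {N S : Type*} [CommGroup N] [Group S] (φ : S →* MulAut N)
    {l : ℕ} (hl : l.Prime) (hN : ∀ n : N, n ^ l = 1)
    (hfix : ∀ (s : S) (n : N), φ s n = n → n ≠ 1 → ∀ q : ℕ, q.Prime → q ≠ l → orderOf s ≠ q)
    {p q : ℕ} (hp : p.Prime) (hq : q.Prime) (hpq : p ≠ q) (g : N ⋊[φ] S)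
    (hg : orderOf g = p * q) : ∃ s : S, orderOf s = p * q := by
  have hm : orderOf g.right ∣ p * q := by
    rw [← hg]; exact orderOf_map_dvd (rightHom : N ⋊[φ] S →* S) g
  have hpow : ∀ k : ℕ, (g ^ k).right = g.right ^ k := fun k =>
    map_pow (rightHom : N ⋊[φ] S →* S) g k
  have hinl : g ^ orderOf g.right = inl (g ^ orderOf g.right).left := by
    ext
    · simp
    · rw [hpow, pow_orderOf_eq_one]; simp
  have h2 : p * q ∣ orderOf g.right * l := by
    rw [← hg]
    apply orderOf_dvd_of_pow_eq_one
    rw [pow_mul, hinl, ← map_pow, hN, map_one]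
  have aux : ∀ p q : ℕ, p.Prime → q.Prime → p ≠ q → orderOf g = p * q →
      orderOf g.right ∣ p * q → p * q ∣ orderOf g.right * l → l = p →
      orderOf g.right = p * q := by
    intro p q hp hq hpq hg hm h2 hlp
    subst hlp
    have hqm : q ∣ orderOf g.right := by
      rw [mul_comm l q] at h2
      exact Nat.dvd_of_mul_dvd_mul_right hp.pos h2
    obtain ⟨j, hj⟩ := hqm
    have hjl : j ∣ l := by
      rw [hj, mul_comm l q] at hm
      exact Nat.dvd_of_mul_dvd_mul_left hq.pos hm
    rcases (Nat.dvd_prime hp).mp hjl with h1 | h1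
    · exfalso
      rw [h1, mul_one] at hj
      have hne : (g ^ orderOf g.right).left ≠ 1 := by
        intro h
        rw [h, map_one] at hinl
        have := orderOf_dvd_of_pow_eq_one hinl
        rw [hg, hj] at this
        have h3 := Nat.le_of_dvd hq.pos this
        have := hp.two_le
        nlinarith [hq.pos]
      have hcomm : g * g ^ orderOf g.right = g ^ orderOf g.right * g :=
        (Commute.self_pow g _).eq
      have hfx : φ g.right (g ^ orderOf g.right).left = (g ^ orderOf g.right).left := by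
        have h3 := congrArg SemidirectProduct.left hcomm
        rw [mul_left, mul_left, hpow, pow_orderOf_eq_one, map_one, MulAut.one_apply,
          mul_comm (g ^ orderOf g.right).left] at h3
        exact mul_left_cancel h3
      exact hfix _ _ hfx hne q hq hpq.symm hj
    · rw [hj, h1, mul_comm]
  by_cases h1 : l = p
  · exact ⟨_, aux p q hp hq hpq hg hm h2 h1⟩
  by_cases h3 : l = q
  · refine ⟨g.right, ?_⟩
    rw [mul_comm p q]
    exact aux q p hq hp hpq.symm (by rw [hg, mul_comm]) (by rwa [mul_comm]) (by rwa [mul_comm q p]) h3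
  · refine ⟨g.right, Nat.dvd_antisymm hm ?_⟩
    have hc : Nat.Coprime (p * q) l :=
      Nat.Coprime.mul_left ((Nat.coprime_primes hp hl).mpr (Ne.symm h1))
        ((Nat.coprime_primes hq hl).mpr (Ne.symm h3))
    exact hc.dvd_of_dvd_mul_right h2

/-- Under the hypotheses of `semidirect_adj`, if moreover `l` divides `|S|`, the semidirect product
has the same prime graph as `S`. -/
theorem semidirect_same_graph {N S : Type*} [CommGroup N] [Group S] [Finite N] [Finite S]
    (φ : S →* MulAut N) {l : ℕ} (hl : l.Prime) (hN : ∀ n : N, n ^ l = 1)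
    (hfix : ∀ (s : S) (n : N), φ s n = n → n ≠ 1 → ∀ q : ℕ, q.Prime → q ≠ l → orderOf s ≠ q)
    (hlS : l ∣ Nat.card S) :
    (∀ p : ℕ, p.Prime → (p ∣ Nat.card S ↔ p ∣ Nat.card (N ⋊[φ] S))) ∧
    (∀ p q : ℕ, p.Prime → q.Prime → p ≠ q →
      ((∃ g : S, orderOf g = p * q) ↔ (∃ g : N ⋊[φ] S, orderOf g = p * q))) := by
  have hcard : Nat.card (N ⋊[φ] S) = Nat.card N * Nat.card S := by
    rw [Nat.card_congr (equivProd : N ⋊[φ] S ≃ N × S), Nat.card_prod]
  have : Fact l.Prime := ⟨hl⟩
  have hNp : IsPGroup l N := fun n => ⟨1, by rw [pow_one]; exact hN n⟩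
  obtain ⟨k, hk⟩ := (IsPGroup.iff_card).mp hNp
  constructor
  · intro p hp
    rw [hcard]
    constructor
    · intro h; exact h.mul_left _
    · intro h
      rcases hp.dvd_mul.mp h with h | h
      · rw [hk] at h
        have := (Nat.prime_dvd_prime_iff_eq hp hl).mp (hp.dvd_of_dvd_pow h)
        rw [this]; exact hlS
      · exact h
  · intro p q hp hq hpq
    constructor
    · rintro ⟨g, hg⟩
      exact ⟨inr g, by rw [orderOf_injective _ inr_injective, hg]⟩
    · rintro ⟨g, hg⟩
      exact semidirect_adj φ hl hN hfix hp hq hpq g hg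

/-- `SL n R` acting on `n × k` matrices by left multiplication. -/
def slAct {n : Type*} [Fintype n] [DecidableEq n] (R : Type*) [CommRing R] (k : Type*) :
    Matrix.SpecialLinearGroup n R →* MulAut (Multiplicative (Matrix n k R)) where
  toFun s := AddEquiv.toMultiplicative
    { toFun := fun X => (s : Matrix n n R) * X
      invFun := fun X => ((s⁻¹ : Matrix.SpecialLinearGroup n R) : Matrix n n R) * X
      left_inv := fun X => by
        change ((s⁻¹ : Matrix.SpecialLinearGroup n R) : Matrix n n R) * ((s : Matrix n n R) * X) = X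
        rw [← Matrix.mul_assoc, ← Matrix.SpecialLinearGroup.coe_mul, inv_mul_cancel]; simp
      right_inv := fun X => by
        change (s : Matrix n n R) * (((s⁻¹ : Matrix.SpecialLinearGroup n R) : Matrix n n R) * X) = X
        rw [← Matrix.mul_assoc, ← Matrix.SpecialLinearGroup.coe_mul, mul_inv_cancel]; simp
      map_add' := fun X Y => Matrix.mul_add _ X Y }
  map_one' := by
    ext X
    simp
  map_mul' s t := by
    ext X
    simp [Matrix.mul_assoc]

theorem slAct_apply {n : Type*} [Fintype n] [DecidableEq n] (R : Type*) [CommRing R] (k : Type*)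
    (s : Matrix.SpecialLinearGroup n R) (X : Multiplicative (Matrix n k R)) :
    slAct R k s X = Multiplicative.ofAdd ((s : Matrix n n R) * X.toAdd) := rfl

/-- In characteristic two, an element of `SL₂` fixing a nonzero matrix under left multiplication
is an involution. -/
theorem sl2_sq_eq_one {F : Type*} [Field F] [CharP F 2] {k : Type*}
    (s : Matrix.SpecialLinearGroup (Fin 2) F) (X : Matrix (Fin 2) k F) (hX : X ≠ 0)
    (hs : (s : Matrix (Fin 2) (Fin 2) F) * X = X) : s ^ 2 = 1 := by
  obtain ⟨j, hj⟩ : ∃ j, (fun i => X i j) ≠ 0 := by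
    by_contra hcon
    push Not at hcon
    apply hX
    ext i j
    exact congrFun (hcon j) i
  have hdet : ((s : Matrix (Fin 2) (Fin 2) F) - 1).det = 0 := by
    rw [← Matrix.exists_mulVec_eq_zero_iff]
    refine ⟨_, hj, ?_⟩
    rw [Matrix.sub_mulVec, Matrix.one_mulVec, sub_eq_zero]
    ext i
    exact congrFun (congrFun hs i) j
  have h1 : (s : Matrix (Fin 2) (Fin 2) F) 0 0 * (s : Matrix (Fin 2) (Fin 2) F) 1 1 -
      (s : Matrix (Fin 2) (Fin 2) F) 0 1 * (s : Matrix (Fin 2) (Fin 2) F) 1 0 = 1 := by
    rw [← Matrix.det_fin_two]; exact s.2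
  rw [Matrix.det_fin_two] at hdet
  simp only [Matrix.sub_apply, Matrix.one_apply_eq, Matrix.one_apply_ne, ne_eq, zero_ne_one,
    one_ne_zero, not_false_eq_true, sub_zero, Fin.isValue] at hdet
  have h3 : (2 : F) = 0 := CharTwo.two_eq_zero
  have hsum : (s : Matrix (Fin 2) (Fin 2) F) 0 0 + (s : Matrix (Fin 2) (Fin 2) F) 1 1 = 2 := by
    linear_combination h1 - hdet
  apply Matrix.SpecialLinearGroup.ext
  intro i j
  rw [pow_two, Matrix.SpecialLinearGroup.coe_mul, Matrix.mul_apply, Fin.sum_univ_two]
  fin_cases i <;> fin_cases j <;> simp only [Fin.zero_eta, Fin.mk_one, Fin.isValue,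
    Matrix.SpecialLinearGroup.coe_one, Matrix.one_apply_eq, Matrix.one_apply_ne, ne_eq,
    zero_ne_one, one_ne_zero, not_false_eq_true]
  · linear_combination (s : Matrix (Fin 2) (Fin 2) F) 0 0 * hsum - h1 +
      ((s : Matrix (Fin 2) (Fin 2) F) 0 0 - 1) * h3
  · linear_combination (s : Matrix (Fin 2) (Fin 2) F) 0 1 * hsum +
      (s : Matrix (Fin 2) (Fin 2) F) 0 1 * h3
  · linear_combination (s : Matrix (Fin 2) (Fin 2) F) 1 0 * hsum +
      (s : Matrix (Fin 2) (Fin 2) F) 1 0 * h3
  · linear_combination (s : Matrix (Fin 2) (Fin 2) F) 1 1 * hsum - h1 +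
      ((s : Matrix (Fin 2) (Fin 2) F) 1 1 - 1) * h3

/-- In characteristic two, `SL₂` has trivial centre, so `PSL₂ ≃* SL₂`. -/
theorem psl2_equiv_sl2 (F : Type*) [Field F] [CharP F 2] :
    Nonempty (Matrix.ProjectiveSpecialLinearGroup (Fin 2) F ≃*
      Matrix.SpecialLinearGroup (Fin 2) F) := by
  have hc : Subgroup.center (Matrix.SpecialLinearGroup (Fin 2) F) = ⊥ := by
    rw [eq_bot_iff]
    intro A hA
    rw [Matrix.SpecialLinearGroup.mem_center_iff] at hA
    obtain ⟨r, hr, hrA⟩ := hA
    simp only [Fintype.card_fin] at hr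
    have h3 : (2 : F) = 0 := CharTwo.two_eq_zero
    have : (r - 1) ^ 2 = 0 := by linear_combination hr - r * h3 + h3
    have hr1 : r = 1 := by
      have := pow_eq_zero_iff (two_ne_zero) |>.mp this
      linear_combination this
    rw [Subgroup.mem_bot]
    apply Matrix.SpecialLinearGroup.ext
    intro i j
    rw [← hrA, hr1]
    simp
  exact ⟨(QuotientGroup.quotientMulEquivOfEq hc).trans QuotientGroup.quotientBot⟩

end Cfsg.Agent.Lib.Helper64
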