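import Cfsg.Agent.Lib.Helper53.JCDefs
import Cfsg.Agent.Lib.Helper53.Basic
import Cfsg.Agent.Lib.Helper55.TF
import Cfsg.Agent.Lib.Helper55.RelSN

set_option autoImplicit false
set_option linter.unusedSectionVars false
set_option linter.unusedVariables false

/-!
Kurzweil-Stellmacher ch. 12: uniqueness of the maximal 2-local subgroup over `⟨K, J(T)⟩`
(statement S2950), from the structure facts `St1`, `St2`, `St4` of helper53's ladder and the
texts of S2944 and S2948.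
-/

namespace Cfsg.Agent.Lib.Helper64.JC

open Cfsg Subgroup Cfsg.Agent.Lib.Helper53 Cfsg.Agent.Lib.Helper53.JC
open Cfsg.Agent.Lib.Helper15.ZJ (AE PE)
open scoped commutatorElement

variable {G : Type*} [Group G]

theorem isJComponent_congr {T T' K : Subgroup G}
    (h : thompsonSubgroupOf 2 T = thompsonSubgroupOf 2 T') :
    IsJComponent T K ↔ IsJComponent T' K := by
  unfold IsJComponent
  rw [h]

theorem wOf_cj (g : G) (K : Subgroup G) : wOf (cjj g K) = cjj g (wOf K) := by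
  unfold wOf omegaCenterOf cjj
  rw [Subgroup.map_commutator, pCoreOf_cj]
  congr 1
  exact (Helper55.cj_omZ 2 g (pCoreOf 2 K)).symm

theorem normalizer_le_normalizer_wOf (K : Subgroup G) :
    normalizer (K : Set G) ≤ normalizer (wOf K : Set G) := by
  intro g hg
  rw [← cj_eq_self_iff] at hg ⊢
  have := wOf_cj g K
  rw [cjj, hg] at this
  exact this.symm

theorem wOf_le_pCoreOf (K : Subgroup G) : wOf K ≤ pCoreOf 2 K := by
  unfold wOf
  rw [Subgroup.commutator_le]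
  intro a ha k hk
  have ha' : a ∈ pCoreOf 2 K := Helper55.omZ_le 2 (pCoreOf 2 K) ha
  have h1 : k * a⁻¹ * k⁻¹ ∈ pCoreOf 2 K :=
    (Subgroup.mem_normalizer_iff.1 (le_normalizer_pCoreOf 2 K hk) a⁻¹).1 (inv_mem ha')
  have : ⁅a, k⁆ = a * (k * a⁻¹ * k⁻¹) := by rw [commutatorElement_def]; group
  rw [this]
  exact mul_mem ha' h1

theorem isSylowTwoIn_iff [Finite G] {T L : Subgroup G} : IsSylowTwoIn T L ↔ IsSyl 2 T L := by
  have : Fact (Nat.Prime 2) := ⟨Nat.prime_two⟩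
  rw [isSyl_iff_relIndex, IsSylowTwoIn, ← Nat.not_even_iff_odd, even_iff_two_dvd]

theorem exists_maximalTwoLocal [Finite G] {N : Subgroup G} (hN : IsTwoLocal N) :
    ∃ L, IsMaximalTwoLocal L ∧ N ≤ L := by
  obtain ⟨L, hNL, hL⟩ := (Set.toFinite {X : Subgroup G | IsTwoLocal X}).exists_le_maximal hN
  exact ⟨L, ⟨hL.prop, fun N' hN' hLN' => le_antisymm (hL.le_of_ge hN' hLN') hLN'⟩, hNL⟩

theorem isPGroup_of_PE {B : Subgroup G} (h : PE 2 B) : IsPGroup 2 ↥B := by
  intro b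
  refine ⟨1, ?_⟩
  apply Subtype.ext
  have := h.2 b.1 b.2
  simpa using this

theorem thompson_le_of_isSyl [Finite G] {T L : Subgroup G} (h : IsSyl 2 T L) :
    thompsonSubgroupOf 2 T ≤ thompsonSubgroupOf 2 L := by
  have : Fact (Nat.Prime 2) := ⟨Nat.prime_two⟩
  rw [Helper15.ZJ.thompsonSubgroupOf_eq, Helper15.ZJ.thompsonSubgroupOf_eq]
  apply sSup_le_sSup
  intro A hA
  refine ⟨hA.1.trans h.le, hA.2.1, fun B hB hPB => ?_⟩
  obtain ⟨P, hP, hBP⟩ := exists_isSyl_ge hB (isPGroup_of_PE hPB)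
  obtain ⟨k, hk, hPk⟩ := hP.exists_conj h
  have h1 : B.map (MulAut.conj k).toMonoidHom ≤ T := by
    rw [hPk]; exact Subgroup.map_mono hBP
  have h2 : PE 2 (B.map (MulAut.conj k).toMonoidHom) :=
    (Helper15.ZJ.PE_map_iff (T := B) (MulAut.conj k).toMonoidHom
      (MulAut.conj k).injective.injOn le_rfl).2 hPB
  have := hA.2.2 _ h1 h2
  rwa [card_cj] at this

theorem le_normalizer_thompson (L : Subgroup G) :
    L ≤ normalizer (thompsonSubgroupOf 2 L : Set G) :=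
  le_normalizer.trans (Helper55.normalizer_le_normalizer_thompsonSubgroupOf 2 L)

theorem commutator_le_of_le_normalizer {A B H : Subgroup G} (hB : B ≤ H)
    (hA : A ≤ normalizer (H : Set G)) : ⁅A, B⁆ ≤ H := by
  rw [Subgroup.commutator_le]
  intro a ha b hb
  have h1 : a * b * a⁻¹ ∈ H := (Subgroup.mem_normalizer_iff.1 (hA ha) b).1 (hB hb)
  have : ⁅a, b⁆ = a * b * a⁻¹ * b⁻¹ := by rw [commutatorElement_def]
  rw [this]
  exact mul_mem h1 (inv_mem (hB hb))

/-- the join of the four-groups `W_K'` over the `J(T)`-components `K'` of `L`. -/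
def RR (T L : Subgroup G) : Subgroup G :=
  ⨆ K' : {K' : Subgroup G // IsJComponent T K' ∧ K' ≤ L}, wOf K'.1

theorem wOf_le_RR {T L K' : Subgroup G} (h : IsJComponent T K') (hL : K' ≤ L) :
    wOf K' ≤ RR T L :=
  le_iSup (fun K' : {K' : Subgroup G // IsJComponent T K' ∧ K' ≤ L} => wOf K'.1) ⟨K', h, hL⟩

theorem RR_le {T L H : Subgroup G}
    (h : ∀ K' : Subgroup G, IsJComponent T K' → K' ≤ L → wOf K' ≤ H) : RR T L ≤ H :=
  iSup_le fun K' => h K'.1 K'.2.1 K'.2.2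

theorem mem_normalizer_RR [Finite G] {T L : Subgroup G} {g : G}
    (h : ∀ K' : Subgroup G, IsJComponent T K' → K' ≤ L →
      IsJComponent T (cjj g K') ∧ cjj g K' ≤ L) : g ∈ normalizer (RR T L : Set G) := by
  rw [← cj_eq_self_iff]
  apply cj_eq_of_le
  unfold RR
  rw [Subgroup.map_iSup]
  apply iSup_le
  intro K'
  have h1 := h K'.1 K'.2.1 K'.2.2
  have h2 := wOf_le_RR h1.1 h1.2
  rw [wOf_cj] at h2
  exact h2

/-- what the ladder gives for a 2-local subgroup over `⟨K, J(T)⟩`. -/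
structure Good (T L : Subgroup G) : Prop where
  sn : ∀ K' : Subgroup G, IsJComponent T K' → K' ≤ L → (K'.subgroupOf L).IsSubnormal
  nz : ∀ K' : Subgroup G, IsJComponent T K' → K' ≤ L → HHL L ≤ normalizer (K' : Set G)
  cj : ∀ K' : Subgroup G, IsJComponent T K' → K' ≤ L → ∀ l ∈ L, IsJComponent T (cjj l K')
  le : ∀ K' : Subgroup G, IsJComponent T K' → K' ≤ L → K' ≤ HHL L

theorem good_of [Finite G] (h1 : St1 G) (h2 : St2 G) (h4 : St4 G) {T T' L : Subgroup G}
    (hT' : IsPGroup 2 ↥T') (hL : L ∈ jOvergroups T')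
    (hJ : thompsonSubgroupOf 2 T = thompsonSubgroupOf 2 T') : Good T L where
  sn K' hK' hle := h1 T' L K' hT' hL ((isJComponent_congr hJ).1 hK') hle
  nz K' hK' hle := h2 T' L K' hT' hL ((isJComponent_congr hJ).1 hK') hle
  cj K' hK' hle l hl :=
    (isJComponent_congr hJ).2 (h4 T' L K' hT' hL ((isJComponent_congr hJ).1 hK') hle l hl)
  le K' hK' hle := by
    have e : ⁅K', thompsonSubgroupOf 2 T⁆ = K' := hK'.2.1
    rw [← e]
    apply commutator_le_of_le_normalizer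
    · rw [hJ]
      exact thompson_le_of_isSyl (isSylowTwoIn_iff.1 hL.1)
    · exact hle.trans (le_normalizer_thompson L)

theorem Good.wOf_le [Finite G] {T L K' : Subgroup G} (h : Good T L) (hK' : IsJComponent T K')
    (hle : K' ≤ L) : wOf K' ≤ pCoreOf 2 L := by
  have s1 : Helper55.SN K' L := Helper55.SN.of_isSubnormal hle (h.sn K' hK' hle)
  have s2 : Helper55.SN (pCoreOf 2 K') K' :=
    Helper55.SN.of_normal (pCoreOf_le 2 K') (le_normalizer_pCoreOf 2 K')
  exact (wOf_le_pCoreOf K').trans ((s2.trans s1).le_pCore (pCoreOf_isPGroup 2 K'))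

theorem wOf_ne_bot {T K : Subgroup G} (h : IsJComponent T K) : wOf K ≠ ⊥ := by
  intro hb
  have h4 : Nat.card ↥(wOf K) = 4 := h.2.2.2.2.1
  rw [hb, Subgroup.card_bot] at h4
  omega

theorem Good.normalizer_RR [Finite G] {T L K : Subgroup G} (h : Good T L)
    (hL : IsMaximalTwoLocal L) (hK : IsJComponent T K) (hle : K ≤ L) :
    normalizer (RR T L : Set G) = L := by
  apply hL.2
  · refine ⟨RR T L, ?_, ?_, rfl⟩
    · exact (pCoreOf_isPGroup 2 L).to_le (RR_le fun K' hK' hle' => h.wOf_le hK' hle')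
    · intro hb
      have := wOf_le_RR hK hle
      rw [hb, le_bot_iff] at this
      exact wOf_ne_bot hK this
  · intro l hl
    apply mem_normalizer_RR
    intro K' hK' hle'
    exact ⟨h.cj K' hK' hle' l hl, cj_le_of_le_of_mem hle' hl⟩

theorem mem_normalizer_RR' [Finite G] {T L : Subgroup G} {g : G}
    (h : ∀ K' : Subgroup G, IsJComponent T K' → K' ≤ L → g ∈ normalizer (wOf K' : Set G)) :
    g ∈ normalizer (RR T L : Set G) := by
  rw [← cj_eq_self_iff]
  apply cj_eq_of_le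
  unfold RR
  rw [Subgroup.map_iSup]
  apply iSup_le
  intro K'
  rw [cj_eq_self_iff.2 (h K'.1 K'.2.1 K'.2.2)]
  exact wOf_le_RR K'.2.1 K'.2.2

/-- two maximal 2-locals over `K`, one of them containing `N_G(K)`, coincide. -/
theorem eq_of_good [Finite G] {T L L' K : Subgroup G} (h : Good T L) (h' : Good T L')
    (hL : IsMaximalTwoLocal L) (hL' : IsMaximalTwoLocal L') (hK : IsJComponent T K)
    (hle : K ≤ L) (hle' : K ≤ L') (hN : normalizer (K : Set G) ≤ L) : L' = L := by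
  have s1 : ∀ K' : Subgroup G, IsJComponent T K' → K' ≤ L' → K' ≤ L := fun K' hK' hl =>
    ((h'.le K' hK' hl).trans (h'.nz K hK hle')).trans hN
  have s2 : ∀ K'' : Subgroup G, IsJComponent T K'' → K'' ≤ L → K'' ≤ L' := by
    intro K'' hK'' hl
    rw [← h'.normalizer_RR hL' hK hle']
    intro x hx
    apply mem_normalizer_RR'
    intro K' hK' hl'
    exact normalizer_le_normalizer_wOf K' (h.nz K' hK' (s1 K' hK' hl') (h.le K'' hK'' hl hx))
  have e : RR T L' = RR T L := by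
    apply le_antisymm
    · exact RR_le fun K' hK' hl => wOf_le_RR hK' (s1 K' hK' hl)
    · exact RR_le fun K' hK' hl => wOf_le_RR hK' (s2 K' hK' hl)
  rw [← h'.normalizer_RR hL' hK hle', ← h.normalizer_RR hL hK hle, e]

theorem S2950_of [Finite G] (h1 : St1 G) (h2 : St2 G) (h4 : St4 G) {M T K : Subgroup G}
    (hT2 : IsPGroup 2 ↥T) (hK : IsJComponent T K) (hKM : ¬ K ≤ M)
    (hO2 : pCoreOf 2 (K ⊔ T) ≠ ⊥)
    (h44 : normalizer (K : Set G) = normalizer (wOf K : Set G))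
    (h48 : ∀ L : Subgroup G, IsTwoLocal L → ¬ L ≤ M → ∀ T₀ : Subgroup G, IsSylowTwoIn T₀ L →
      thompsonSubgroupOf 2 T ≤ T₀ →
      thompsonSubgroupOf 2 T = thompsonSubgroupOf 2 T₀ ∧ T₀ ∈ straddlingTwoSubgroups M ∧
        L ∈ jOvergroups T₀ ∧
        (T ≤ L → L ∈ jOvergroups T ∧ ∃ K : Subgroup G, IsJComponent T K ∧ K ≤ L)) :
    ∃ L : Subgroup G, IsMaximalTwoLocal L ∧ K ⊔ thompsonSubgroupOf 2 T ≤ L ∧
      (∀ L' : Subgroup G, IsMaximalTwoLocal L' → K ⊔ thompsonSubgroupOf 2 T ≤ L' → L' = L) ∧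
      (K.subgroupOf L).IsSubnormal ∧ IsSylowTwoIn T L := by
  have hJT : thompsonSubgroupOf 2 T ≤ T := Helper55.thompsonSubgroupOf_le 2 T
  have hJ2 : IsPGroup 2 ↥(thompsonSubgroupOf 2 T) := hT2.to_le hJT
  -- every 2-local over `K ⊔ J(T)` is good
  have good : ∀ L : Subgroup G, IsTwoLocal L → K ⊔ thompsonSubgroupOf 2 T ≤ L → Good T L := by
    intro L hL hX
    have hLM : ¬ L ≤ M := fun h => hKM ((le_sup_left.trans hX).trans h)
    obtain ⟨T', hT', hJT'⟩ := exists_isSyl_ge (le_sup_right.trans hX) hJ2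
    obtain ⟨e, -, hov, -⟩ := h48 L hL hLM T' (isSylowTwoIn_iff.2 hT') hJT'
    exact good_of h1 h2 h4 hT'.isPGroup hov e
  -- the maximal 2-local over `N_G(K)`
  have hW2 : IsPGroup 2 ↥(wOf K) := (pCoreOf_isPGroup 2 K).to_le (wOf_le_pCoreOf K)
  have hNK : IsTwoLocal (normalizer (K : Set G)) := ⟨wOf K, hW2, wOf_ne_bot hK, h44⟩
  obtain ⟨Ls, hLs, hNLs⟩ := exists_maximalTwoLocal hNK
  have hJN : thompsonSubgroupOf 2 T ≤ normalizer (K : Set G) := by
    have e : ⁅K, thompsonSubgroupOf 2 T⁆ = K := hK.2.1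
    have := Subgroup.normalizer_commutator_ge_right K (thompsonSubgroupOf 2 T)
    rwa [e] at this
  have hXs : K ⊔ thompsonSubgroupOf 2 T ≤ Ls := (sup_le le_normalizer hJN).trans hNLs
  have uniq : ∀ L' : Subgroup G, IsMaximalTwoLocal L' → K ⊔ thompsonSubgroupOf 2 T ≤ L' →
      L' = Ls := fun L' hL' hX' =>
    eq_of_good (good Ls hLs.1 hXs) (good L' hL'.1 hX') hLs hL' hK (le_sup_left.trans hXs)
      (le_sup_left.trans hX') hNLs
  -- the maximal 2-local over `⟨K, T⟩`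
  have hKT : IsTwoLocal (normalizer (pCoreOf 2 (K ⊔ T) : Set G)) :=
    ⟨_, pCoreOf_isPGroup 2 _, hO2, rfl⟩
  obtain ⟨L, hL, hKTL⟩ := exists_maximalTwoLocal hKT
  have hKTL' : K ⊔ T ≤ L := (le_normalizer_pCoreOf 2 (K ⊔ T)).trans hKTL
  have hX : K ⊔ thompsonSubgroupOf 2 T ≤ L := (sup_le_sup_left hJT K).trans hKTL'
  have hLLs : L = Ls := uniq L hL hX
  subst hLLs
  refine ⟨L, hL, hX, uniq, (good L hL.1 hX).sn K hK (le_sup_left.trans hX), ?_⟩
  have hLM : ¬ L ≤ M := fun h => hKM ((le_sup_left.trans hX).trans h)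
  have hTL : T ≤ L := le_sup_right.trans hKTL'
  obtain ⟨T', hT', hTT'⟩ := exists_isSyl_ge hTL hT2
  obtain ⟨-, -, -, h5⟩ := h48 L hL.1 hLM T' (isSylowTwoIn_iff.2 hT') (hJT.trans hTT')
  exact (h5 hTL).1.1

end Cfsg.Agent.Lib.Helper64.JC
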