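import Cfsg.Agent.Lib.Helper64.JC2950
import Cfsg.Agent.Lib.Helper53.JCSt
import Cfsg.Agent.Lib.Helper69.JCCore1
import Cfsg.Agent.Lib.Helper55.JCFFa
import Cfsg.Agent.Lib.Helper56.JC44
import Cfsg.Agent.Lib.Helper56.JC48

set_option autoImplicit false
set_option linter.unusedSectionVars false
set_option linter.unusedVariables false

/-!
S2950 from the standing hypotheses `ZN G` and `St3 G` only.
-/

namespace Cfsg.Agent.Lib.Helper64.JC

open Cfsg Subgroup Cfsg.Agent.Lib.Helper53 Cfsg.Agent.Lib.Helper53.JC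

variable {G : Type*} [Group G]

/-- variant of `S2950_of` with the two facts of S2948 that are really used. -/
theorem S2950_of' [Finite G] (h1 : St1 G) (h2 : St2 G) (h4 : St4 G) {M T K : Subgroup G}
    (hT2 : IsPGroup 2 ↥T) (hK : IsJComponent T K) (hKM : ¬ K ≤ M)
    (hO2 : pCoreOf 2 (K ⊔ T) ≠ ⊥)
    (h44 : normalizer (K : Set G) = normalizer (wOf K : Set G))
    (h48a : ∀ L : Subgroup G, IsTwoLocal L → ¬ L ≤ M → ∀ T₀ : Subgroup G, IsSylowTwoIn T₀ L →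
      thompsonSubgroupOf 2 T ≤ T₀ →
      thompsonSubgroupOf 2 T = thompsonSubgroupOf 2 T₀ ∧ L ∈ jOvergroups T₀)
    (h48b : ∀ L : Subgroup G, IsTwoLocal L → ¬ L ≤ M → T ≤ L → IsSylowTwoIn T L) :
    ∃ L : Subgroup G, IsMaximalTwoLocal L ∧ K ⊔ thompsonSubgroupOf 2 T ≤ L ∧
      (∀ L' : Subgroup G, IsMaximalTwoLocal L' → K ⊔ thompsonSubgroupOf 2 T ≤ L' → L' = L) ∧
      (K.subgroupOf L).IsSubnormal ∧ IsSylowTwoIn T L := by
  have hJT : thompsonSubgroupOf 2 T ≤ T := Helper55.thompsonSubgroupOf_le 2 T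
  have hJ2 : IsPGroup 2 ↥(thompsonSubgroupOf 2 T) := hT2.to_le hJT
  have good : ∀ L : Subgroup G, IsTwoLocal L → K ⊔ thompsonSubgroupOf 2 T ≤ L → Good T L := by
    intro L hL hX
    have hLM : ¬ L ≤ M := fun h => hKM ((le_sup_left.trans hX).trans h)
    obtain ⟨T', hT', hJT'⟩ := exists_isSyl_ge (le_sup_right.trans hX) hJ2
    obtain ⟨e, hov⟩ := h48a L hL hLM T' (Helper64.JC.isSylowTwoIn_iff.2 hT') hJT'
    exact good_of h1 h2 h4 hT'.isPGroup hov e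
  have hW2 : IsPGroup 2 ↥(wOf K) := (pCoreOf_isPGroup 2 K).to_le (Helper64.JC.wOf_le_pCoreOf K)
  have hNK : IsTwoLocal (normalizer (K : Set G)) :=
    ⟨wOf K, hW2, Helper64.JC.wOf_ne_bot hK, h44⟩
  obtain ⟨Ls, hLs, hNLs⟩ := exists_maximalTwoLocal hNK
  have hJN : thompsonSubgroupOf 2 T ≤ normalizer (K : Set G) := by
    have e : ⁅K, thompsonSubgroupOf 2 T⁆ = K := hK.2.1
    have := Subgroup.normalizer_commutator_ge_right K (thompsonSubgroupOf 2 T)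
    rwa [e] at this
  have hXs : K ⊔ thompsonSubgroupOf 2 T ≤ Ls := (sup_le le_normalizer hJN).trans hNLs
  have uniq : ∀ L' : Subgroup G, IsMaximalTwoLocal L' → K ⊔ thompsonSubgroupOf 2 T ≤ L' →
      L' = Ls := fun L' hL' hX' =>
    eq_of_good (good Ls hLs.1 hXs) (good L' hL'.1 hX') hLs hL' hK (le_sup_left.trans hXs)
      (le_sup_left.trans hX') hNLs
  have hKT : IsTwoLocal (normalizer (pCoreOf 2 (K ⊔ T) : Set G)) :=
    ⟨_, pCoreOf_isPGroup 2 _, hO2, rfl⟩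
  obtain ⟨L, hL, hKTL⟩ := exists_maximalTwoLocal hKT
  have hKTL' : K ⊔ T ≤ L := (le_normalizer_pCoreOf 2 (K ⊔ T)).trans hKTL
  have hX : K ⊔ thompsonSubgroupOf 2 T ≤ L := (sup_le_sup_left hJT K).trans hKTL'
  have hLLs : L = Ls := uniq L hL hX
  subst hLLs
  refine ⟨L, hL, hX, uniq, (good L hL.1 hX).sn K hK (le_sup_left.trans hX), ?_⟩
  have hLM : ¬ L ≤ M := fun h => hKM ((le_sup_left.trans hX).trans h)
  exact h48b L hL.1 hLM (le_sup_right.trans hKTL')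

theorem S2950_main [Finite G] (h : ZN G) (h3 : St3 G) (S : Sylow 2 G) (M : Subgroup G)
    (hMJ : normalizer (thompsonSubgroupOf 2 (S : Subgroup G) : Set G) ≤ M) (T : Subgroup G)
    (hT : T ∈ maxStraddlingTwoSubgroups M) (K : Subgroup G) (hK : K ∈ jComponentsOutside M T) :
    ∃ L : Subgroup G, IsMaximalTwoLocal L ∧ K ⊔ thompsonSubgroupOf 2 T ≤ L ∧
      (∀ L' : Subgroup G, IsMaximalTwoLocal L' → K ⊔ thompsonSubgroupOf 2 T ≤ L' → L' = L) ∧
      (K.subgroupOf L).IsSubnormal ∧ IsSylowTwoIn T L := by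
  have hc : Core1 G := Helper69.JC.core1 h
  have hf : FFa G := Helper55.ffa hc
  have h4 : St4 G := st4 h hc hf
  obtain ⟨hTp, hT1, hTM, -⟩ := hT.1
  obtain ⟨hK0, hKM, hO2⟩ := hK
  refine S2950_of' (st1 h hc hf) (st2 h hc hf) h4 hTp hK0.1 hKM hO2
    (Helper56.JC.S2944_of h h3 h4 T hTp K hK0).1 ?_ ?_
  · intro L hL2 hLM T₀ hT₀ hJ
    obtain ⟨a, -, c⟩ := Helper56.JC.S2948_core h.hL S M hMJ T hT L hL2 hLM T₀
      (Helper64.JC.isSylowTwoIn_iff.1 hT₀) hJ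
    exact ⟨a.symm, c⟩
  · intro L hL2 hLM hTL
    obtain ⟨P, hP, hTP⟩ := exists_isSyl_ge hTL hTp
    have hJP : JJ T ≤ P := (Helper55.thompsonSubgroupOf_le 2 T).trans hTP
    obtain ⟨-, b', c'⟩ := Helper56.JC.S2948_core h.hL S M hMJ T hT L hL2 hLM P hP hJP
    have h5 := (Helper56.JC.beats hT b' hJP).2
    have h7 : T = P := Subgroup.eq_of_le_of_card_ge hTP h5
    rw [h7]
    exact c'.1

end Cfsg.Agent.Lib.Helper64.JC
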