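import Cfsg.Agent.Lib.Helper64.JC2MAXS
import Cfsg.Agent.Lib.Helper53.JCAll
import Cfsg.Agent.Lib.Helper69.JCSt56
import Cfsg.Agent.S2948
import Cfsg.Agent.S2950

set_option autoImplicit false
set_option linter.unusedSectionVars false

/-! K-S ch. 12 part 2 (ladder JC2 of helper53): rung G2. -/

namespace Cfsg.Agent.Lib.Helper64.JC2

open Cfsg Subgroup
open Cfsg.Agent.Lib.Helper53 Cfsg.Agent.Lib.Helper53.JC Cfsg.Agent.Lib.Helper53.JC2
open Cfsg.Agent.Lib.Helper56.JC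
open Cfsg.Agent.Lib.Helper15.ZJ (AE PE)

variable {G : Type*} [Group G] [Finite G]

/-- rung G2, with the rungs AF and PP as hypotheses. -/
theorem g2_of
    (haf : ∀ (S : Sylow 2 G) (M T K L : Subgroup G), C51 S M T K L → AF S T K L)
    (hpp : ∀ (S : Sylow 2 G) (M T K L : Subgroup G), C51 S M T K L → AF S T K L →
      Concl51 S T K L → PPr T K L)
    (hnb : NoBad G) (h51 : T51 G) {S : Sylow 2 G} {M K L : Subgroup G}
    (c : C51 S M (S : Subgroup G) K L) (f : AF S (S : Subgroup G) K L)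
    (hNS : normalizer ((S : Subgroup G) : Set G) ≤ L) :
    ∃ K₂ L₂ : Subgroup G, IsJComponent (S : Subgroup G) K₂ ∧ ¬ K₂ ≤ L ∧
      PPr (S : Subgroup G) K₂ L₂ := by
  have zn := c.zn
  -- Z₀ = Z
  have hZ0 : omegaCenterOf (S : Subgroup G) = omegaCenterOf (JJ (S : Subgroup G)) := by
    rcases (h51 S M S K L c).2 with h | h | h
    · exact h.1
    · exact h.1
    · exact h.1
  -- N(J(S)) ≤ L
  have hNJ : normalizer (JJ (S : Subgroup G) : Set G) ≤ L := by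
    refine le_trans ?_ (f.a8.trans hNS)
    rw [hZ0]
    exact normalizer_le_normalizer_omegaCenterOf _
  have hL2 : IsTwoLocal L := c.hLmax.1
  -- a 2-local over S outside L
  obtain ⟨N, hN2, hSN, hNL⟩ : ∃ N : Subgroup G, IsTwoLocal N ∧ (S : Subgroup G) ≤ N ∧ ¬ N ≤ L := by
    by_contra hcon
    push Not at hcon
    exact hnb zn c.hO S L ⟨hL2, f.jo, hcon⟩
  have hSylN : IsSyl 2 (S : Subgroup G) N := (isSyl_top_of_sylow S).of_le hSN le_top
  have hQS : pCoreOf 2 N ≤ (S : Subgroup G) := pCoreOf_le_isSyl hSylN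
  have hJQ : ¬ JJ (S : Subgroup G) ≤ pCoreOf 2 N := by
    intro hJ
    apply hNL
    have e : JJ (pCoreOf 2 N) = JJ (S : Subgroup G) := Helper55.thompsonSubgroupOf_eq_of_le hJ hQS
    refine le_trans ?_ hNJ
    rw [← e]
    exact (le_normalizer_pCoreOf 2 N).trans (normalizer_le_normalizer_JJ _)
  have hNjo : N ∈ jOvergroups (S : Subgroup G) :=
    ⟨JC.isSylowTwoIn_iff.2 hSylN, hJQ, twoLocal_char zn.hL hN2⟩
  -- a component outside L
  obtain ⟨K₂, hK₂, hK₂N, hK₂L⟩ : ∃ K₂ : Subgroup G, IsJComponent (S : Subgroup G) K₂ ∧ K₂ ≤ N ∧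
      ¬ K₂ ≤ L := by
    by_contra hcon
    push Not at hcon
    apply hNL
    refine Helper69.JC.st5 (zn_core1 zn) (zn_ffa zn) (S : Subgroup G) N L S.isPGroup' hNjo hcon
      (inf_le_right.trans hNJ) (inf_le_right.trans ((zn.hZ S).trans hNS))
  have hSstr : (S : Subgroup G) ∈ straddlingTwoSubgroups L :=
    ⟨S.isPGroup', f.hT1, f.syl.1, N, hN2, hSN, hNL⟩
  have hSmax : (S : Subgroup G) ∈ maxStraddlingTwoSubgroups L := sylow_mem_maxStraddling hSstr
  have hK₂out : K₂ ∈ jComponentsOutside L (S : Subgroup G) := by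
    refine ⟨⟨hK₂, fun S' hJS' hS' => ?_⟩, hK₂L, ?_⟩
    · exact ((Cfsg.Agent.S2948.result zn.hL zn.hN zn.hZ c.hO S L hL2 hNJ (S : Subgroup G) hSmax
        (normalizer (wOf K₂ : Set G)) (jc_twoLocal_W hK₂)
        (fun h0 => hK₂L ((le_normalizer_wOf K₂).trans h0)) S' hS' hJS').1).symm
    · intro h0
      apply twoLocal_pCoreOf_ne_bot hN2
      rw [← le_bot_iff, ← h0]
      exact le_pCoreOf (hQS.trans le_sup_right)
        ((sup_le hK₂N hSN).trans (le_normalizer_pCoreOf 2 N)) (pCoreOf_isPGroup 2 N)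
  obtain ⟨L₂, hL₂max, hKL₂, -, -, -⟩ := Cfsg.Agent.S2950.result zn.hL zn.hN zn.hZ c.hO S L hL2 hNJ
    (S : Subgroup G) hSmax K₂ hK₂out
  have c₂ : C51 S L (S : Subgroup G) K₂ L₂ :=
    ⟨zn, c.hO, hL2, hNJ, hSmax, le_rfl, hK₂out, hL₂max, hKL₂⟩
  have f₂ := haf S L S K₂ L₂ c₂
  exact ⟨K₂, L₂, hK₂, hK₂L, hpp S L S K₂ L₂ c₂ f₂ (h51 S L S K₂ L₂ c₂)⟩

end Cfsg.Agent.Lib.Helper64.JC2
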