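import Cfsg.Agent.Lib.Helper53.JC2Defs
import Cfsg.Agent.Lib.Helper53.JCBasic
import Cfsg.Agent.Lib.Helper56.JC48

set_option autoImplicit false
set_option linter.unusedSectionVars false

/-! K-S ch. 12 part 2 (ladder JC2 of helper53): rung MAXS. -/

namespace Cfsg.Agent.Lib.Helper64.JC2

open Cfsg Subgroup
open Cfsg.Agent.Lib.Helper53 Cfsg.Agent.Lib.Helper53.JC Cfsg.Agent.Lib.Helper53.JC2
open Cfsg.Agent.Lib.Helper56.JC
open Cfsg.Agent.Lib.Helper15.ZJ (AE PE)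

variable {G : Type*} [Group G]

theorem isTwoLocal_cj {N : Subgroup G} (h : IsTwoLocal N) (g : G) : IsTwoLocal (cjj g N) := by
  obtain ⟨T, hT, hT1, rfl⟩ := h
  exact ⟨cjj g T, isPGroup_cj hT g, fun h0 => hT1 (cj_eq_bot_iff.1 h0), (normalizer_cj T g).symm⟩

theorem cjj_le_iff_of_mem {M K : Subgroup G} {m : G} (hm : m ∈ M) : cjj m K ≤ M ↔ K ≤ M := by
  constructor
  · intro h
    have := cj_le_of_le_of_mem h (M.inv_mem hm)
    rwa [cj_cj, inv_mul_cancel, cj_one] at this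
  · intro h
    exact cj_le_of_le_of_mem h hm

theorem straddling_cj {M T : Subgroup G} (h : T ∈ straddlingTwoSubgroups M) {m : G} (hm : m ∈ M) :
    cjj m T ∈ straddlingTwoSubgroups M := by
  obtain ⟨h1, h2, h3, L, hL, hTL, hLM⟩ := h
  exact ⟨isPGroup_cj h1 m, fun h0 => h2 (cj_eq_bot_iff.1 h0), cj_le_of_le_of_mem h3 hm, cjj m L,
    isTwoLocal_cj hL m, cj_mono m hTL, fun h0 => hLM ((cjj_le_iff_of_mem hm).1 h0)⟩

variable [Finite G]

theorem maxElemAbelianOrder_cj (g : G) (T : Subgroup G) :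
    maxElemAbelianOrder (cjj g T) = maxElemAbelianOrder T := by
  obtain ⟨A, hA⟩ := Helper15.ZJ.AE_nonempty 2 T
  rw [maxElemAbelianOrder_eq hA, maxElemAbelianOrder_eq (AE_cj g hA), card_cj]

omit [Finite G] in
theorem card_JJ_cj (g : G) (T : Subgroup G) : Nat.card ↥(JJ (cjj g T)) = Nat.card ↥(JJ T) := by
  rw [← JJ_cj, card_cj]

theorem exists_maxStraddling {M : Subgroup G} (h : (straddlingTwoSubgroups M).Nonempty) :
    (maxStraddlingTwoSubgroups M).Nonempty := by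
  obtain ⟨T₀, hT₀, hmax⟩ := Set.exists_max_image (straddlingTwoSubgroups M)
    (fun T : Subgroup G => toLex (maxElemAbelianOrder T, toLex (Nat.card ↥(JJ T), Nat.card ↥T)))
    (Set.toFinite _) h
  refine ⟨T₀, hT₀, fun T hT => ?_⟩
  have h1 := hmax T hT
  simp only [Prod.Lex.toLex_le_toLex] at h1
  rcases h1 with h1 | ⟨h1, h2⟩
  · exact ⟨h1.le, fun h0 => absurd h0 h1.ne⟩
  · refine ⟨h1.le, fun _ => ?_⟩
    rcases h2 with h2 | ⟨h2, h3⟩
    · exact ⟨h2.le, fun h0 => absurd h0 h2.ne⟩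
    · exact ⟨h2.le, fun _ => h3⟩

theorem maxStraddling_cj {M T : Subgroup G} (h : T ∈ maxStraddlingTwoSubgroups M) {m : G}
    (hm : m ∈ M) : cjj m T ∈ maxStraddlingTwoSubgroups M := by
  refine ⟨straddling_cj h.1 hm, fun T' hT' => ?_⟩
  have h1 := h.2 T' hT'
  rw [maxElemAbelianOrder_cj, card_cj]
  have e : Nat.card ↥(thompsonSubgroupOf 2 (cjj m T)) = Nat.card ↥(thompsonSubgroupOf 2 T) :=
    card_JJ_cj m T
  rw [e]
  exact h1

theorem jComponentsZero_cj {T K : Subgroup G} (h : K ∈ jComponentsZero T) (m : G) :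
    cjj m K ∈ jComponentsZero (cjj m T) := by
  refine ⟨isJComponent_cj m h.1, fun S hS1 hS2 => ?_⟩
  have h1 : JJ T ≤ cjj m⁻¹ S := by
    have h0 : cjj m⁻¹ (JJ (cjj m T)) ≤ cjj m⁻¹ S := cj_mono m⁻¹ hS1
    have e : cjj m⁻¹ (JJ (cjj m T)) = JJ T := by rw [← JJ_cj, cjj_inv_cjj]
    rwa [e] at h0
  have h2 : IsSylowTwoIn (cjj m⁻¹ S) (normalizer (wOf K : Set G)) := by
    have := isSylowTwoIn_cj m⁻¹ hS2
    have e : cjj m⁻¹ (normalizer (wOf (cjj m K) : Set G)) = normalizer (wOf K : Set G) := by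
      rw [← JC.wOf_cj]
      show cjj m⁻¹ (normalizer (((wOf K).map (MulAut.conj m).toMonoidHom : Subgroup G) : Set G)) = _
      rw [normalizer_cj]
      exact cjj_inv_cjj m _
    rwa [e] at this
  have h3 := h.2 _ h1 h2
  have h4 : JJ (cjj m⁻¹ S) = JJ T := h3
  show JJ S = JJ (cjj m T)
  rw [← JJ_cj, ← h4, ← JJ_cj, cjj_cjj_inv]

theorem jComponentsOutside_cj {M T K : Subgroup G} (h : K ∈ jComponentsOutside M T) {m : G}
    (hm : m ∈ M) : cjj m K ∈ jComponentsOutside M (cjj m T) := by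
  obtain ⟨h1, h2, h3⟩ := h
  refine ⟨jComponentsZero_cj h1 m, fun h0 => h2 ((cjj_le_iff_of_mem hm).1 h0), ?_⟩
  have e : cjj m K ⊔ cjj m T = cjj m (K ⊔ T) := (cj_sup K T m).symm
  rw [e]
  show pCoreOf 2 ((K ⊔ T).map (MulAut.conj m).toMonoidHom) ≠ ⊥
  rw [pCoreOf_cj]
  exact fun h0 => h3 (cj_eq_bot_iff.1 h0)

theorem exists_cj_le {S : Sylow 2 G} {M T : Subgroup G} (hSM : (S : Subgroup G) ≤ M)
    (hT : IsPGroup 2 ↥T) (hTM : T ≤ M) : ∃ m ∈ M, cjj m T ≤ (S : Subgroup G) := by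
  have hS : IsSyl 2 (S : Subgroup G) M := (isSyl_top_of_sylow S).of_le hSM le_top
  obtain ⟨P, hP, hTP⟩ := exists_isSyl_ge hTM hT
  obtain ⟨m, hm, hmP⟩ := hP.exists_conj hS
  refine ⟨m, hm, ?_⟩
  rw [hmP]
  exact cj_mono m hTP

theorem sylow_mem_maxStraddling {S : Sylow 2 G} {M : Subgroup G}
    (h : (S : Subgroup G) ∈ straddlingTwoSubgroups M) :
    (S : Subgroup G) ∈ maxStraddlingTwoSubgroups M := by
  refine ⟨h, fun T hT => ?_⟩
  obtain ⟨g, -, hg⟩ := exists_cj_le (S := S) (M := ⊤) le_top hT.1 le_top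
  obtain ⟨A, hA⟩ := Helper15.ZJ.AE_nonempty 2 (cjj g T)
  obtain ⟨B, hB⟩ := Helper15.ZJ.AE_nonempty 2 (S : Subgroup G)
  rw [← maxElemAbelianOrder_cj g T, maxElemAbelianOrder_eq hA, maxElemAbelianOrder_eq hB]
  refine ⟨hB.2.2 A (hA.1.trans hg) hA.2.1, fun h1 => ⟨?_, fun _ => ?_⟩⟩
  · have h3 : JJ (cjj g T) ≤ JJ (S : Subgroup G) := by
      rw [JJ_le_iff]
      intro A' hA'
      apply le_JJ
      refine ⟨hA'.1.trans hg, hA'.2.1, fun C hC hC2 => ?_⟩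
      rw [AE_card_eq hA' hA, h1]
      exact hB.2.2 C hC hC2
    have h4 := Subgroup.card_le_of_le h3
    rwa [card_JJ_cj] at h4
  · have h4 := Subgroup.card_le_of_le hg
    rwa [card_cj] at h4

theorem exists_sylow_ge {S : Sylow 2 G} {M T : Subgroup G}
    (hMJ : normalizer (JJ (S : Subgroup G) : Set G) ≤ M) (hT : IsPGroup 2 ↥T) (hTM : T ≤ M) :
    ∃ S' : Sylow 2 G, normalizer (JJ (S' : Subgroup G) : Set G) ≤ M ∧ T ≤ (S' : Subgroup G) := by
  have hSM : (S : Subgroup G) ≤ M :=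
    (le_normalizer.trans (normalizer_le_normalizer_JJ _)).trans hMJ
  obtain ⟨m, hm, hmT⟩ := exists_cj_le hSM hT hTM
  have hS' : IsSyl 2 (cjj m⁻¹ (S : Subgroup G)) ⊤ := by
    have := (isSyl_top_of_sylow S).cj_mem (g := m⁻¹) (Subgroup.mem_top _)
    exact this
  refine ⟨hS'.toSylowTop, ?_, ?_⟩
  · show normalizer (JJ (cjj m⁻¹ (S : Subgroup G)) : Set G) ≤ M
    rw [← JJ_cj]
    show normalizer (((JJ (S : Subgroup G)).map (MulAut.conj m⁻¹).toMonoidHom : Subgroup G) : Set G) ≤ M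
    rw [normalizer_cj]
    exact cj_le_of_le_of_mem hMJ (M.inv_mem hm)
  · show T ≤ cjj m⁻¹ (S : Subgroup G)
    exact (cj_le_iff m).1 hmT

end Cfsg.Agent.Lib.Helper64.JC2
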