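import Mathlib

set_option autoImplicit false

/-! Extending automorphisms of a normal subgroup with a cyclic complement; counting the orbits of
the automorphism group. -/

namespace Cfsg.Agent.Lib.Helper64

theorem exists_hom_of_isComplement' {G H' : Type*} [Group G] [Group H'] (N K : Subgroup G)
    [hN : N.Normal] (hc : N.IsComplement' K) (fn : N →* H') (fg : K →* H')
    (h : ∀ (k : K) (n : N), fn ⟨k * n * (k : G)⁻¹, hN.conj_mem _ n.2 _⟩ = fg k * fn n * (fg k)⁻¹) :
    ∃ F : G →* H', (∀ n : N, F n = fn n) ∧ (∀ k : K, F k = fg k) := by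
  let e := SemidirectProduct.mulEquivSubgroup hc
  let L := SemidirectProduct.lift (φ := (N.normalizerMonoidHom).comp
    (Subgroup.inclusion (N.normalizer_eq_top ▸ le_top))) fn fg (by
      intro k
      ext n
      exact h k n)
  refine ⟨L.comp e.symm.toMonoidHom, ?_, ?_⟩
  · intro n
    have : e.symm (n : G) = SemidirectProduct.inl n := by
      rw [MulEquiv.symm_apply_eq]
      change (n : G) = SemidirectProduct.monoidHomSubgroup _ (SemidirectProduct.inl n)
      simp [SemidirectProduct.monoidHomSubgroup]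
    change L (e.symm (n : G)) = _
    rw [this]
    simp [L]
  · intro k
    have : e.symm (k : G) = SemidirectProduct.inr k := by
      rw [MulEquiv.symm_apply_eq]
      change (k : G) = SemidirectProduct.monoidHomSubgroup _ (SemidirectProduct.inr k)
      simp [SemidirectProduct.monoidHomSubgroup]
    change L (e.symm (k : G)) = _
    rw [this]
    simp [L]

/-- the `j`-th power map on a cyclic subgroup, as a homomorphism to the ambient group. -/
def zpowersPowHom {G : Type*} [Group G] (x : G) (j : ℕ) : Subgroup.zpowers x →* G where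
  toFun k := (k : G) ^ j
  map_one' := by simp
  map_mul' a b := by
    obtain ⟨a, ha⟩ := a
    obtain ⟨b, hb⟩ := b
    obtain ⟨m, rfl⟩ := Subgroup.mem_zpowers_iff.1 ha
    obtain ⟨n, rfl⟩ := Subgroup.mem_zpowers_iff.1 hb
    have : Commute (x ^ m) (x ^ n) := (Commute.refl x).zpow_zpow m n
    exact this.mul_pow j

theorem exists_aut_extending {G : Type*} [Group G] [Finite G] (P : Subgroup G) [hP : P.Normal]
    (x : G) (hc : P.IsComplement' (Subgroup.zpowers x)) (σ : MulAut P) (j : ℕ)
    (hcop : (orderOf x).Coprime j)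
    (hrel : ∀ u : P, ((σ (MulAut.conjNormal x u) : P) : G) = x ^ j * σ u * (x ^ j)⁻¹) :
    ∃ φ : MulAut G, (∀ u : P, φ u = σ u) ∧ φ x = x ^ j := by
  have hsemi : SemiconjBy σ (MulAut.conjNormal x : MulAut P) (MulAut.conjNormal (x ^ j)) := by
    ext u
    exact hrel u
  obtain ⟨F, hF1, hF2⟩ := exists_hom_of_isComplement' P (Subgroup.zpowers x) hc
    (P.subtype.comp σ.toMonoidHom) (zpowersPowHom x j) (by
      rintro ⟨k, hk⟩ n
      obtain ⟨m, rfl⟩ := Subgroup.mem_zpowers_iff.1 hk
      have h1 := hsemi.zpow_right m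
      rw [← map_zpow, ← map_zpow] at h1
      have h2 := congrArg (fun f : MulAut P => ((f n : P) : G)) h1.eq
      simp only [MulAut.mul_apply, MulAut.conjNormal_apply] at h2
      change ((σ ⟨x ^ m * n * (x ^ m)⁻¹, _⟩ : P) : G) = (x ^ m) ^ j * σ n * ((x ^ m) ^ j)⁻¹
      have h3 : (x ^ j) ^ m = (x ^ m) ^ j := by
        rw [← zpow_natCast, ← zpow_natCast, ← zpow_mul, ← zpow_mul, mul_comm]
      rw [← h3, ← h2]
      rfl)
  have hFx : F x = x ^ j := hF2 ⟨x, Subgroup.mem_zpowers x⟩
  have hsurj : Function.Surjective F := by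
    rw [← MonoidHom.range_eq_top, eq_top_iff, ← hc.sup_eq_top, sup_le_iff]
    constructor
    · intro u hu
      refine ⟨(σ.symm ⟨u, hu⟩ : P), ?_⟩
      rw [hF1]
      simp
    · rw [Subgroup.zpowers_le]
      obtain ⟨m, hm⟩ := exists_pow_eq_self_of_coprime hcop.symm
      refine ⟨x ^ m, ?_⟩
      rw [map_pow, hFx, hm]
  have hbij : Function.Bijective F := ⟨Finite.injective_iff_surjective.2 hsurj, hsurj⟩
  exact ⟨MulEquiv.ofBijective F hbij, fun u => hF1 u, hFx⟩

theorem card_orbits_eq_three_iff {G : Type*} [Group G] [Finite G] (a b : G) (ha : a ≠ 1)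
    (hb : b ≠ 1) (hab : orderOf a ≠ orderOf b) :
    Nat.card (MulAction.orbitRel.Quotient (MulAut G) G) = 3 ↔
      ∀ g : G, g = 1 ∨ (∃ φ : MulAut G, φ a = g) ∨ (∃ φ : MulAut G, φ b = g) := by
  let f : Fin 3 → MulAction.orbitRel.Quotient (MulAut G) G :=
    ![Quotient.mk'' 1, Quotient.mk'' a, Quotient.mk'' b]
  have key : ∀ g h : G, (Quotient.mk'' g : MulAction.orbitRel.Quotient (MulAut G) G)
      = Quotient.mk'' h ↔ ∃ φ : MulAut G, φ h = g := by
    intro g h
    rw [Quotient.eq'', MulAction.orbitRel_apply, MulAction.mem_orbit_iff]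
    rfl
  have h01 : (Quotient.mk'' 1 : MulAction.orbitRel.Quotient (MulAut G) G) ≠ Quotient.mk'' a := by
    intro h
    obtain ⟨φ, hφ⟩ := (key _ _).1 h
    exact ha (by simpa using hφ)
  have h02 : (Quotient.mk'' 1 : MulAction.orbitRel.Quotient (MulAut G) G) ≠ Quotient.mk'' b := by
    intro h
    obtain ⟨φ, hφ⟩ := (key _ _).1 h
    exact hb (by simpa using hφ)
  have h12 : (Quotient.mk'' a : MulAction.orbitRel.Quotient (MulAut G) G) ≠ Quotient.mk'' b := by
    intro h
    obtain ⟨φ, hφ⟩ := (key _ _).1 h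
    exact hab (by rw [← hφ, MulEquiv.orderOf_eq])
  have hinj : Function.Injective f := by
    intro i j hij
    fin_cases i <;> fin_cases j
    · rfl
    · exact absurd hij h01
    · exact absurd hij h02
    · exact absurd hij.symm h01
    · rfl
    · exact absurd hij h12
    · exact absurd hij.symm h02
    · exact absurd hij.symm h12
    · rfl
  constructor
  · intro h g
    have hbij : Function.Bijective f :=
      (Nat.bijective_iff_injective_and_card f).2 ⟨hinj, by simp [h]⟩
    obtain ⟨i, hi⟩ := hbij.2 (Quotient.mk'' g)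
    fin_cases i
    · left
      obtain ⟨φ, hφ⟩ := (key _ _).1 hi.symm
      rw [← hφ, map_one]
    · right; left
      exact (key _ _).1 hi.symm
    · right; right
      exact (key _ _).1 hi.symm
  · intro h
    have hsurj : Function.Surjective f := by
      intro c
      induction c using Quotient.inductionOn' with
      | h g =>
        rcases h g with rfl | hφ | hφ
        · exact ⟨0, rfl⟩
        · exact ⟨1, ((key _ _).2 hφ).symm⟩
        · exact ⟨2, ((key _ _).2 hφ).symm⟩
    have := Nat.card_eq_of_bijective f ⟨hinj, hsurj⟩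
    rw [← this]
    simp

end Cfsg.Agent.Lib.Helper64
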