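import Mathlib

set_option autoImplicit false

namespace Cfsg.Agent.Lib.Helper64

open Subgroup

/-- Partition argument for a Frobenius-like group `Q ⋊ ⟨x⟩` acting on an abelian group. -/
theorem frob_core {A H : Type*} [CommGroup A] [Group H] (φ : H →* MulAut A)
    (Q : Subgroup H) [Finite Q] (x : H) (r : ℕ) (hx : x ^ r = 1) (hr : 0 < r)
    (hxQ : ∀ c ∈ Q, x * c * x⁻¹ ∈ Q)
    (h1 : ∀ w : A, (∀ c ∈ Q, φ c w = w) → w = 1)
    (h2 : ∀ w : A, φ x w = w → w = 1)
    (h3 : ∀ c ∈ Q, ∀ i, 0 < i → i < r → c * x ^ i = x ^ i * c → c = 1) (v : A) :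
    v ^ (Nat.card Q) = 1 := by
  classical
  have : Fintype Q := Fintype.ofFinite Q
  -- T w = 1
  have hT : ∀ w : A, ∏ c : Q, φ (c : H) w = 1 := by
    intro w
    apply h1
    intro d hd
    rw [map_prod]
    refine Fintype.prod_equiv (Equiv.mulLeft (⟨d, hd⟩ : Q)) _ _ ?_
    intro c
    simp [map_mul, MulAut.mul_apply]
  -- S w = 1
  have hS : ∀ w : A, ∏ i ∈ Finset.range r, φ (x ^ i) w = 1 := by
    intro w
    apply h2
    rw [map_prod]
    have e1 : ∀ i, φ x (φ (x ^ i) w) = φ (x ^ (i + 1)) w := by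
      intro i
      rw [pow_succ', map_mul, MulAut.mul_apply]
    simp only [e1]
    have e2 := Finset.prod_range_succ (fun i => φ (x ^ i) w) r
    have e3 := Finset.prod_range_succ' (fun i => φ (x ^ i) w) r
    rw [e2] at e3
    simp only [hx, pow_zero, map_one, MulAut.one_apply] at e3
    exact (mul_right_cancel e3).symm
  -- x^i normalizes Q
  have hxiQ : ∀ i : ℕ, ∀ c ∈ Q, x ^ i * c * (x ^ i)⁻¹ ∈ Q := by
    intro i
    induction i with
    | zero => intro c hc; simpa using hc
    | succ n ih =>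
      intro c hc
      have := hxQ _ (ih c hc)
      have e : x ^ (n + 1) * c * (x ^ (n + 1))⁻¹ = x * (x ^ n * c * (x ^ n)⁻¹) * x⁻¹ := by
        rw [pow_succ']; group
      rw [e]; exact this
  -- the double product
  have hD1 : ∏ c : Q, ∏ i ∈ Finset.range r, φ ((c : H) * x ^ i * (c : H)⁻¹) v = 1 := by
    apply Finset.prod_eq_one
    intro c _
    have : ∀ i, φ ((c : H) * x ^ i * (c : H)⁻¹) v = φ (c : H) (φ (x ^ i) (φ (c : H)⁻¹ v)) := by
      intro i
      simp [map_mul, MulAut.mul_apply]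
    simp only [this]
    rw [← map_prod, hS, map_one]
  rw [Finset.prod_comm] at hD1
  have hi : ∀ i ∈ Finset.range r, i ≠ 0 → ∏ c : Q, φ ((c : H) * x ^ i * (c : H)⁻¹) v = 1 := by
    intro i hi hi0
    have hir : i < r := Finset.mem_range.mp hi
    let σ : Q → Q := fun c => ⟨(c : H) * x ^ i * (c : H)⁻¹ * (x ^ i)⁻¹, by
      have := Q.mul_mem c.2 (hxiQ i _ (Q.inv_mem c.2))
      have e : (c : H) * x ^ i * (c : H)⁻¹ * (x ^ i)⁻¹ = (c : H) * (x ^ i * (c : H)⁻¹ * (x ^ i)⁻¹) := by
        group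
      rw [e]; exact this⟩
    have hσinj : Function.Injective σ := by
      intro c d hcd
      have h : (c : H) * x ^ i * (c : H)⁻¹ * (x ^ i)⁻¹ = (d : H) * x ^ i * (d : H)⁻¹ * (x ^ i)⁻¹ :=
        congrArg Subtype.val hcd
      have h' : (c : H) * x ^ i * (c : H)⁻¹ = (d : H) * x ^ i * (d : H)⁻¹ := mul_right_cancel h
      have h4 : ((d : H)⁻¹ * c) * x ^ i = x ^ i * ((d : H)⁻¹ * c) := by
        have : (d : H)⁻¹ * ((c : H) * x ^ i * (c : H)⁻¹) * c = (d : H)⁻¹ * ((d : H) * x ^ i * (d : H)⁻¹) * c := by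
          rw [h']
        calc ((d : H)⁻¹ * c) * x ^ i = (d : H)⁻¹ * ((c : H) * x ^ i * (c : H)⁻¹) * c := by group
          _ = (d : H)⁻¹ * ((d : H) * x ^ i * (d : H)⁻¹) * c := this
          _ = x ^ i * ((d : H)⁻¹ * c) := by group
      have h5 := h3 _ (Q.mul_mem (Q.inv_mem d.2) c.2) i (Nat.pos_of_ne_zero hi0) hir h4
      apply Subtype.ext
      have : (c : H) = d := by
        have := congrArg (fun z => (d : H) * z) h5
        simpa using this
      exact this
    have hσbij : Function.Bijective σ := Finite.injective_iff_bijective.mp hσinj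
    have e1 : ∀ c : Q, φ ((c : H) * x ^ i * (c : H)⁻¹) v = φ ((σ c : Q) : H) (φ (x ^ i) v) := by
      intro c
      rw [← MulAut.mul_apply, ← map_mul]
      congr 2
      simp [σ]
    simp only [e1]
    rw [Function.Bijective.prod_comp hσbij (fun c : Q => φ (c : H) (φ (x ^ i) v))]
    exact hT _
  rw [Finset.prod_eq_single_of_mem 0 (Finset.mem_range.mpr hr) hi] at hD1
  simpa [Finset.prod_const, Nat.card_eq_fintype_card] using hD1

theorem exists_orderOf_mul {G : Type*} [Group G] [Finite G] {w s : G} (hc : Commute w s) {p l : ℕ}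
    (hp : p ∣ orderOf w) (hl : l ∣ orderOf s) (hpl : Nat.Coprime p l) :
    ∃ y : G, orderOf y = p * l := by
  refine ⟨w ^ (orderOf w / p) * s ^ (orderOf s / l), ?_⟩
  have h1 : orderOf (w ^ (orderOf w / p)) = p :=
    orderOf_pow_orderOf_div (orderOf_pos w).ne' hp
  have h2 : orderOf (s ^ (orderOf s / l)) = l :=
    orderOf_pow_orderOf_div (orderOf_pos s).ne' hl
  have hc' : Commute (w ^ (orderOf w / p)) (s ^ (orderOf s / l)) := hc.pow_pow _ _
  rw [hc'.orderOf_mul_eq_mul_orderOf_of_coprime (by rw [h1, h2]; exact hpl), h1, h2]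

theorem pgroup_dvd_orderOf {G : Type*} [Group G] {p : ℕ} (hp : p.Prime) (H : Subgroup G)
    (hH : IsPGroup p H) {w : G} (hw : w ∈ H) (h1 : w ≠ 1) : p ∣ orderOf w := by
  obtain ⟨k, hk⟩ := hH ⟨w, hw⟩
  have hk' : w ^ (p ^ k) = 1 := by
    have := congrArg Subtype.val hk
    simpa using this
  obtain ⟨j, _, hj⟩ := (Nat.dvd_prime_pow hp).1 (orderOf_dvd_of_pow_eq_one hk')
  rcases Nat.eq_zero_or_pos j with h0 | h0
  · exfalso
    rw [h0, pow_zero, orderOf_eq_one_iff] at hj
    exact h1 hj
  · rw [hj]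
    exact dvd_pow_self p h0.ne'

/-- Tower lemma: an abelian normal `p`-subgroup, a `q`-subgroup and an element of order `r`
normalizing it force an edge of the prime graph among `p, q, r`. -/
theorem tower {G : Type*} [Group G] [Finite G] (A : Subgroup G) [A.Normal]
    (hAc : ∀ a ∈ A, ∀ b ∈ A, a * b = b * a) {p q r : ℕ} (hp : p.Prime) (hq : q.Prime)
    (hr : r.Prime) (hpq : p ≠ q) (hpr : p ≠ r) (hqr : q ≠ r)
    (hA : IsPGroup p A) (hA1 : A ≠ ⊥) (Q : Subgroup G) (hQ : IsPGroup q Q) (hQ1 : Q ≠ ⊥)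
    (x : G) (hx : orderOf x = r) (hxQ : ∀ c ∈ Q, x * c * x⁻¹ ∈ Q) :
    (∃ y : G, orderOf y = p * q) ∨ (∃ y : G, orderOf y = p * r) ∨ (∃ y : G, orderOf y = q * r) := by
  by_contra hcon
  push Not at hcon
  obtain ⟨n1, n2, n3⟩ := hcon
  let _ : CommGroup A := { (inferInstance : Group A) with
    mul_comm := fun a b => Subtype.ext (hAc a a.2 b b.2) }
  obtain ⟨v, hvA, hv1⟩ := (Subgroup.bot_or_exists_ne_one A).resolve_left hA1
  obtain ⟨c0, hc0Q, hc01⟩ := (Subgroup.bot_or_exists_ne_one Q).resolve_left hQ1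
  have cop_pq : Nat.Coprime p q := (Nat.coprime_primes hp hq).mpr hpq
  have cop_pr : Nat.Coprime p r := (Nat.coprime_primes hp hr).mpr hpr
  have cop_qr : Nat.Coprime q r := (Nat.coprime_primes hq hr).mpr hqr
  have key := frob_core (MulAut.conjNormal (H := A)) Q x r (hx ▸ pow_orderOf_eq_one x) hr.pos hxQ
    (by
      intro w hw
      by_contra hw1
      have hw1' : (w : G) ≠ 1 := fun h => hw1 (Subtype.ext h)
      have h := congrArg Subtype.val (hw c0 hc0Q)
      rw [MulAut.conjNormal_apply] at h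
      have hc : Commute (w : G) c0 := by
        have : c0 * (w : G) = w * c0 := by
          calc c0 * (w : G) = c0 * w * c0⁻¹ * c0 := by group
            _ = w * c0 := by rw [h]
        exact this.symm
      obtain ⟨y, hy⟩ := exists_orderOf_mul hc (pgroup_dvd_orderOf hp A hA w.2 hw1')
        (pgroup_dvd_orderOf hq Q hQ hc0Q hc01) cop_pq
      exact n1 y hy)
    (by
      intro w hw
      by_contra hw1
      have hw1' : (w : G) ≠ 1 := fun h => hw1 (Subtype.ext h)
      have h := congrArg Subtype.val hw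
      rw [MulAut.conjNormal_apply] at h
      have hc : Commute (w : G) x := by
        have : x * (w : G) = w * x := by
          calc x * (w : G) = x * w * x⁻¹ * x := by group
            _ = w * x := by rw [h]
        exact this.symm
      obtain ⟨y, hy⟩ := exists_orderOf_mul hc (pgroup_dvd_orderOf hp A hA w.2 hw1')
        (hx ▸ dvd_refl _) cop_pr
      exact n2 y hy)
    (by
      intro c hc i hi0 hir hcomm
      by_contra hc1
      have ho : orderOf (x ^ i) = r := by
        rw [Nat.Coprime.orderOf_pow, hx]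
        rw [hx]
        exact Nat.coprime_of_lt_prime hi0.ne' hir hr
      obtain ⟨y, hy⟩ := exists_orderOf_mul (show Commute c (x ^ i) from hcomm)
        (pgroup_dvd_orderOf hq Q hQ hc hc1) (ho ▸ dvd_refl _) cop_qr
      exact n3 y hy)
    ⟨v, hvA⟩
  have hv2 : v ^ Nat.card Q = 1 := by
    have := congrArg Subtype.val key
    simpa using this
  obtain ⟨k, hk⟩ := hA ⟨v, hvA⟩
  have hk' : v ^ (p ^ k) = 1 := by
    have := congrArg Subtype.val hk
    simpa using this
  have : Fact q.Prime := ⟨hq⟩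
  obtain ⟨m, hm⟩ := (IsPGroup.iff_card (p := q) (G := Q)).mp hQ
  rw [hm] at hv2
  have hcop : Nat.Coprime (q ^ m) (p ^ k) := Nat.Coprime.pow _ _ cop_pq.symm
  have h1 : orderOf v ∣ Nat.gcd (q ^ m) (p ^ k) :=
    Nat.dvd_gcd (orderOf_dvd_of_pow_eq_one hv2) (orderOf_dvd_of_pow_eq_one hk')
  rw [hcop, Nat.dvd_one, orderOf_eq_one_iff] at h1
  exact hv1 h1

/-- Frattini: a prime dividing the index of a normal subgroup `M` is the order of an element
normalizing a given Sylow subgroup of `M`. -/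
theorem frattini_exists {G : Type*} [Group G] [Finite G] (M : Subgroup G) [M.Normal]
    {q r : ℕ} [Fact q.Prime] (hr : r.Prime) (hrG : r ∣ M.index) (Q : Sylow q M) :
    ∃ x : G, orderOf x = r ∧ ∀ c ∈ (Q : Subgroup M).map M.subtype,
      x * c * x⁻¹ ∈ (Q : Subgroup M).map M.subtype := by
  have hfr := Sylow.normalizer_sup_eq_top Q
  have h1 : M.relIndex (normalizer (((Q : Subgroup M).map M.subtype : Subgroup G) : Set G)) =
      M.index := by
    rw [← Subgroup.relIndex_sup_right, hfr, Subgroup.relIndex_top_right]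
  have h2 : r ∣ Nat.card (normalizer (((Q : Subgroup M).map M.subtype : Subgroup G) : Set G)) :=
    (h1 ▸ hrG).trans (Subgroup.relIndex_dvd_card _ _)
  have : Fact r.Prime := ⟨hr⟩
  obtain ⟨x, hx⟩ := exists_prime_orderOf_dvd_card' r h2
  refine ⟨x, by rw [Subgroup.orderOf_coe, hx], ?_⟩
  intro c hc
  exact (Subgroup.mem_normalizer_iff.mp x.2 c).mp hc

/-- Three primes across a normal chain are not pairwise nonadjacent. -/
theorem chain {G : Type*} [Group G] [Finite G] (K M : Subgroup G) [K.Normal] [M.Normal]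
    (hKM : K ≤ M) {p q r : ℕ} (hp : p.Prime) (hq : q.Prime) (hr : r.Prime)
    (hpq : p ≠ q) (hpr : p ≠ r) (hqr : q ≠ r)
    (hpK : p ∣ Nat.card K) (hqM : q ∣ K.relIndex M) (hrG : r ∣ M.index) :
    (∃ x : G, orderOf x = p * q) ∨ (∃ x : G, orderOf x = p * r) ∨ (∃ x : G, orderOf x = q * r) := by
  have : Fact p.Prime := ⟨hp⟩
  have : Fact q.Prime := ⟨hq⟩
  obtain ⟨P⟩ : Nonempty (Sylow p K) := inferInstance
  set P0 : Subgroup G := (P : Subgroup K).map K.subtype with hP0
  have hfr : normalizer (P0 : Set G) ⊔ K = ⊤ := Sylow.normalizer_sup_eq_top P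
  set G1 : Subgroup G := normalizer (P0 : Set G) with hG1
  have hP1n : (P0.subgroupOf G1).Normal := Subgroup.normal_in_normalizer
  have hP0p : IsPGroup p P0 := P.isPGroup'.map K.subtype
  have hP1p : IsPGroup p (P0.subgroupOf G1) := hP0p.comap_subtype
  have hPne : (P : Subgroup K) ≠ ⊥ := P.ne_bot_of_dvd_card hpK
  have hP0le : P0 ≤ G1 := Subgroup.le_normalizer
  have hP1nt : Nontrivial (P0.subgroupOf G1) := by
    obtain ⟨a, haP, ha1⟩ := (Subgroup.bot_or_exists_ne_one (P : Subgroup K)).resolve_left hPne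
    have haP0 : (a : G) ∈ P0 := Subgroup.mem_map_of_mem K.subtype haP
    refine ⟨⟨⟨⟨(a : G), hP0le haP0⟩, ?_⟩, 1, ?_⟩⟩
    · exact Subgroup.mem_subgroupOf.mpr haP0
    · intro h
      apply ha1
      have := congrArg (fun z : (P0.subgroupOf G1) => ((z : G1) : G)) h
      exact Subtype.ext this
  set A : Subgroup G1 := (Subgroup.center (P0.subgroupOf G1)).map (P0.subgroupOf G1).subtype with hA
  have hAn : A.Normal := ConjAct.normal_of_characteristic_of_normal
  have hAc : ∀ a ∈ A, ∀ b ∈ A, a * b = b * a := by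
    rintro _ ⟨a, ha, rfl⟩ _ ⟨b, _, rfl⟩
    have := (Subgroup.mem_center_iff.mp ha) b
    have h2 := congrArg (P0.subgroupOf G1).subtype this
    simp only [map_mul] at h2
    exact h2.symm
  have hAp : IsPGroup p A := (hP1p.to_subgroup _).map _
  have hA1 : A ≠ ⊥ := by
    have := hP1p.center_nontrivial
    obtain ⟨z, hz, hz1⟩ := Subgroup.exists_ne_one_of_nontrivial (Subgroup.center (P0.subgroupOf G1))
    intro h
    have hm : (P0.subgroupOf G1).subtype z ∈ A := Subgroup.mem_map_of_mem _ hz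
    rw [h, Subgroup.mem_bot] at hm
    exact hz1 (Subtype.ext hm)
  -- the normal subgroup M1 of G1
  have hM1n : (M.subgroupOf G1).Normal := inferInstance
  have hsupM : G1 ⊔ M = ⊤ := by
    apply top_unique
    rw [← hfr]
    exact sup_le_sup_left hKM _
  have hM1i : (M.subgroupOf G1).index = M.index := by
    change M.relIndex G1 = M.index
    rw [← Subgroup.relIndex_sup_right, hsupM, Subgroup.relIndex_top_right]
  have hq1 : q ∣ Nat.card (M.subgroupOf G1) := by
    have e1 : (M ⊓ G1) ⊔ K = M := by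
      apply le_antisymm
      · exact sup_le inf_le_left hKM
      · intro m hm
        have : m ∈ G1 ⊔ K := by rw [hfr]; trivial
        rw [Subgroup.mem_sup_of_normal_right] at this
        obtain ⟨g, hg, k, hk, rfl⟩ := this
        have hgM : g ∈ M := by
          have := M.mul_mem hm (M.inv_mem (hKM hk))
          simpa using this
        exact Subgroup.mul_mem_sup ⟨hgM, hg⟩ hk
    have e2 : K.relIndex (M ⊓ G1) = K.relIndex M := by
      rw [← Subgroup.relIndex_sup_right, e1]
    have e3 : Nat.card (M.subgroupOf G1) = Nat.card (M ⊓ G1 : Subgroup G) := by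
      rw [← Subgroup.inf_subgroupOf_right]
      exact Nat.card_congr (Subgroup.subgroupOfEquivOfLe inf_le_right).toEquiv
    rw [e3]
    exact (e2 ▸ hqM).trans (Subgroup.relIndex_dvd_card _ _)
  obtain ⟨Q⟩ : Nonempty (Sylow q (M.subgroupOf G1)) := inferInstance
  obtain ⟨x, hx, hxQ⟩ := frattini_exists (M.subgroupOf G1) hr (hM1i ▸ hrG) Q
  have hQp : IsPGroup q ((Q : Subgroup (M.subgroupOf G1)).map (M.subgroupOf G1).subtype) :=
    Q.isPGroup'.map _
  have hQ1 : (Q : Subgroup (M.subgroupOf G1)).map (M.subgroupOf G1).subtype ≠ ⊥ := by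
    intro h
    apply Q.ne_bot_of_dvd_card hq1
    rwa [Subgroup.map_eq_bot_iff_of_injective _ (Subgroup.subtype_injective _)] at h
  rcases tower A hAc hp hq hr hpq hpr hqr hAp hA1 _ hQp hQ1 x hx hxQ with ⟨y, hy⟩ | ⟨y, hy⟩ | ⟨y, hy⟩
  · exact Or.inl ⟨y, by rw [Subgroup.orderOf_coe, hy]⟩
  · exact Or.inr (Or.inl ⟨y, by rw [Subgroup.orderOf_coe, hy]⟩)
  · exact Or.inr (Or.inr ⟨y, by rw [Subgroup.orderOf_coe, hy]⟩)

theorem card_lt_of_lt' {G : Type*} [Group G] [Finite G] {H K : Subgroup G} (h : H < K) :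
    Nat.card H < Nat.card K := by
  have h1 : (H : Set G) ⊂ (K : Set G) := h
  have := Set.ncard_lt_ncard h1 (Set.toFinite _)
  exact this

theorem relIndex_eq_div {G : Type*} [Group G] [Finite G] {K M : Subgroup G} (hKM : K ≤ M) :
    K.relIndex M = Nat.card M / Nat.card K := by
  have h1 : Nat.card (K.subgroupOf M) * (K.subgroupOf M).index = Nat.card M :=
    Subgroup.card_mul_index _
  have h2 : Nat.card (K.subgroupOf M) = Nat.card K :=
    Nat.card_congr (Subgroup.subgroupOfEquivOfLe hKM).toEquiv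
  rw [h2] at h1
  rw [← h1, Nat.mul_div_cancel_left _ Nat.card_pos]
  rfl

theorem index_eq_div {G : Type*} [Group G] [Finite G] (M : Subgroup G) :
    M.index = Nat.card G / Nat.card M := by
  rw [← Subgroup.card_mul_index M, Nat.mul_div_cancel_left _ Nat.card_pos]

/-- Two primes dividing the order of `K` but not of its derived subgroup are adjacent. -/
theorem adj_of_not_dvd_commutator {G : Type*} [Group G] [Finite G] (K : Subgroup G)
    {a b : ℕ} (ha : a.Prime) (hb : b.Prime) (hab : a ≠ b)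
    (haK : a ∣ Nat.card K) (hbK : b ∣ Nat.card K)
    (haK' : ¬ a ∣ Nat.card (⁅K, K⁆ : Subgroup G)) (hbK' : ¬ b ∣ Nat.card (⁅K, K⁆ : Subgroup G)) :
    ∃ x : G, orderOf x = a * b := by
  have : Fact a.Prime := ⟨ha⟩
  have : Fact b.Prime := ⟨hb⟩
  have hc : Nat.card (_root_.commutator K) = Nat.card (⁅K, K⁆ : Subgroup G) := by
    rw [← Subgroup.map_subtype_commutator]
    exact (Subgroup.card_map_of_injective (Subgroup.subtype_injective K)).symm
  have hmul : Nat.card (_root_.commutator K) * Nat.card (Abelianization K) = Nat.card K := by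
    have := Subgroup.card_mul_index (_root_.commutator K)
    rwa [Subgroup.index_eq_card] at this
  rw [hc] at hmul
  have ha' : a ∣ Nat.card (Abelianization K) :=
    (ha.dvd_mul.mp (hmul ▸ haK)).resolve_left haK'
  have hb' : b ∣ Nat.card (Abelianization K) :=
    (hb.dvd_mul.mp (hmul ▸ hbK)).resolve_left hbK'
  obtain ⟨u, hu⟩ := exists_prime_orderOf_dvd_card' a ha'
  obtain ⟨v, hv⟩ := exists_prime_orderOf_dvd_card' b hb'
  have huv : orderOf (u * v) = a * b := by
    rw [(Commute.all u v).orderOf_mul_eq_mul_orderOf_of_coprime, hu, hv]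
    rw [hu, hv]
    exact (Nat.coprime_primes ha hb).mpr hab
  obtain ⟨z, hz⟩ := QuotientGroup.mk'_surjective (_root_.commutator K) (u * v)
  have hdvd : a * b ∣ orderOf z := by
    rw [← huv, ← hz]
    exact orderOf_map_dvd _ z
  refine ⟨((z ^ (orderOf z / (a * b)) : K) : G), ?_⟩
  rw [Subgroup.orderOf_coe]
  exact orderOf_pow_orderOf_div (orderOf_pos z).ne' hdvd

/-- If `K` is a solvable normal subgroup, `r, s` divide `|K|` and `t` divides `|G|`, then
`r, s, t` are not pairwise nonadjacent in the prime graph of `G`. -/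
theorem solvable_normal_adj {G : Type*} [Group G] [Finite G] :
    ∀ (n : ℕ) (K : Subgroup G), K.Normal → Group.IsSolvable K → Nat.card K = n →
    ∀ r s t : ℕ, r.Prime → s.Prime → t.Prime → r ≠ s → r ≠ t → s ≠ t →
    r ∣ Nat.card K → s ∣ Nat.card K → t ∣ Nat.card G →
    (∃ x : G, orderOf x = r * s) ∨ (∃ x : G, orderOf x = r * t) ∨ (∃ x : G, orderOf x = s * t) := by
  intro n
  induction n using Nat.strong_induction_on with
  | _ n ih =>
  intro K hKn hKs hKc
  have hK'n : (⁅K, K⁆ : Subgroup G).Normal := Subgroup.commutator_normal K K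
  have hK'le : (⁅K, K⁆ : Subgroup G) ≤ K := Subgroup.commutator_le_left K K
  have hK's : Group.IsSolvable (⁅K, K⁆ : Subgroup G) :=
    Group.isSolvable_of_isSolvable_injective (Subgroup.inclusion_injective hK'le)
  -- asymmetric version
  have main : ∀ r s t : ℕ, r.Prime → s.Prime → t.Prime → r ≠ s → r ≠ t → s ≠ t →
      r ∣ Nat.card K → s ∣ Nat.card K → t ∣ Nat.card G →
      ¬ s ∣ Nat.card (⁅K, K⁆ : Subgroup G) →
      (∃ x : G, orderOf x = r * s) ∨ (∃ x : G, orderOf x = r * t) ∨
        (∃ x : G, orderOf x = s * t) := by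
    intro r s t hr hs ht hrs hrt hst hrK hsK htG hsK'
    have hlt : Nat.card (⁅K, K⁆ : Subgroup G) < n := by
      rw [← hKc]
      apply card_lt_of_lt'
      refine lt_of_le_of_ne hK'le ?_
      intro h
      apply hsK'
      rw [h]; exact hsK
    by_cases hrK' : r ∣ Nat.card (⁅K, K⁆ : Subgroup G)
    · by_cases htK : t ∣ Nat.card K
      · by_cases htK' : t ∣ Nat.card (⁅K, K⁆ : Subgroup G)
        · rcases ih _ hlt ⁅K, K⁆ hK'n hK's rfl r t s hr ht hs hrt hrs hst.symm hrK' htK'
            (hsK.trans (Subgroup.card_subgroup_dvd_card K)) with h | h | ⟨x, hx⟩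
          · exact Or.inr (Or.inl h)
          · exact Or.inl h
          · exact Or.inr (Or.inr ⟨x, by rw [hx, mul_comm]⟩)
        · exact Or.inr (Or.inr (adj_of_not_dvd_commutator K hs ht hst hsK htK hsK' htK'))
      · -- chain
        apply chain ⁅K, K⁆ K hK'le hr hs ht hrs hrt hst hrK'
        · have h1 : Nat.card (⁅K, K⁆ : Subgroup G) * (⁅K, K⁆ : Subgroup G).relIndex K = Nat.card K := by
            rw [relIndex_eq_div hK'le]
            exact Nat.mul_div_cancel' (Subgroup.card_dvd_of_le hK'le)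
          exact (hs.dvd_mul.mp (h1 ▸ hsK)).resolve_left hsK'
        · have h1 := Subgroup.card_mul_index K
          exact (ht.dvd_mul.mp (h1 ▸ htG)).resolve_left htK
    · exact Or.inl (adj_of_not_dvd_commutator K hr hs hrs hrK hsK hrK' hsK')
  intro r s t hr hs ht hrs hrt hst hrK hsK htG
  by_cases hsK' : s ∣ Nat.card (⁅K, K⁆ : Subgroup G)
  · by_cases hrK' : r ∣ Nat.card (⁅K, K⁆ : Subgroup G)
    · have hKne : K ≠ ⊥ := by
        intro h
        rw [h] at hrK
        simp at hrK
        exact hr.one_lt.ne' hrK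
      have hlt : Nat.card (⁅K, K⁆ : Subgroup G) < n := by
        rw [← hKc]
        apply card_lt_of_lt'
        have h1 : _root_.commutator K < ⊤ := by
          have : Nontrivial K := (Subgroup.nontrivial_iff_ne_bot K).mpr hKne
          exact Group.IsSolvable.commutator_lt_top_of_nontrivial K
        refine lt_of_le_of_ne hK'le ?_
        intro h
        apply h1.ne
        apply Subgroup.map_injective (Subgroup.subtype_injective K)
        rw [Subgroup.map_subtype_commutator, h, ← MonoidHom.range_eq_map, Subgroup.range_subtype]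
      exact ih _ hlt ⁅K, K⁆ hK'n hK's rfl r s t hr hs ht hrs hrt hst hrK' hsK' htG
    · rcases main s r t hs hr ht hrs.symm hst hrt hsK hrK htG hrK' with ⟨x, hx⟩ | h | h
      · exact Or.inl ⟨x, by rw [hx, mul_comm]⟩
      · exact Or.inr (Or.inr h)
      · exact Or.inr (Or.inl h)
  · exact main r s t hr hs ht hrs hrt hst hrK hsK htG hsK'

end Cfsg.Agent.Lib.Helper64
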