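import Mathlib

set_option autoImplicit false
set_option linter.unusedSectionVars false
set_option linter.unusedVariables false

/-!
Rung G1 of helper86's RANK2 ladder: a group of automorphisms of `C_p × C_p` that contains an
element of order `p` and fixes no subgroup of order `p` contains the diagonal elements
`diag(m, m⁻¹)` with respect to a suitable basis.
-/

namespace Cfsg.Agent.Lib.Helper64.Rank2G1

section core

variable (p : ℕ) [hp : Fact p.Prime] {V : Type*} [AddCommGroup V] [Module (ZMod p) V]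

/-- `f₁, f₂` is a basis of `V` over `ZMod p`. -/
structure IsB (f₁ f₂ : V) : Prop where
  span : ∀ v : V, ∃ x y : ZMod p, v = x • f₁ + y • f₂
  indep : ∀ x y : ZMod p, x • f₁ + y • f₂ = 0 → x = 0 ∧ y = 0

variable {p}

theorem one_app (v : V) : (1 : V ≃ₗ[ZMod p] V) v = v := rfl

theorem inv_app_self (β : V ≃ₗ[ZMod p] V) (v : V) : β⁻¹ (β v) = v := β.symm_apply_apply v

theorem IsB.symm {f₁ f₂ : V} (h : IsB p f₁ f₂) : IsB p f₂ f₁ where
  span v := by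
    obtain ⟨x, y, rfl⟩ := h.span v
    exact ⟨y, x, add_comm _ _⟩
  indep x y hxy := by
    rw [add_comm] at hxy
    exact (h.indep y x hxy).symm

theorem IsB.ext {f₁ f₂ : V} (h : IsB p f₁ f₂) {α β : (V ≃ₗ[ZMod p] V)} (h1 : α f₁ = β f₁)
    (h2 : α f₂ = β f₂) : α = β := by
  ext v
  obtain ⟨x, y, rfl⟩ := h.span v
  rw [map_add, map_add, map_smul, map_smul, map_smul, map_smul, h1, h2]

theorem IsB.eq {f₁ f₂ : V} (h : IsB p f₁ f₂) {x y x' y' : ZMod p}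
    (e : x • f₁ + y • f₂ = x' • f₁ + y' • f₂) : x = x' ∧ y = y' := by
  have : (x - x') • f₁ + (y - y') • f₂ = 0 := by
    have : (x - x') • f₁ + (y - y') • f₂ = (x • f₁ + y • f₂) - (x' • f₁ + y' • f₂) := by module
    rw [this, e, sub_self]
  obtain ⟨h1, h2⟩ := h.indep _ _ this
  exact ⟨sub_eq_zero.1 h1, sub_eq_zero.1 h2⟩

theorem isB_of [Finite V] (hcard : Nat.card V = p ^ 2) {f₁ f₂ : V} (h1 : f₁ ≠ 0)
    (h2 : ∀ c : ZMod p, f₂ ≠ c • f₁) : IsB p f₁ f₂ := by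
  have indep : ∀ x y : ZMod p, x • f₁ + y • f₂ = 0 → x = 0 ∧ y = 0 := by
    intro x y hxy
    have hy : y = 0 := by
      by_contra hy
      apply h2 (-(y⁻¹ * x))
      have : f₂ = y⁻¹ • (x • f₁ + y • f₂) + (-(y⁻¹ * x)) • f₁ := by
        have e : y⁻¹ • (x • f₁ + y • f₂) + (-(y⁻¹ * x)) • f₁ = (y⁻¹ * y) • f₂ := by module
        rw [e, inv_mul_cancel₀ hy, one_smul]
      rw [hxy, smul_zero, zero_add] at this
      exact this
    subst hy
    rw [zero_smul, add_zero] at hxy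
    exact ⟨(smul_eq_zero.1 hxy).resolve_right h1, rfl⟩
  refine ⟨?_, indep⟩
  let f : ZMod p × ZMod p → V := fun z => z.1 • f₁ + z.2 • f₂
  have hinj : Function.Injective f := by
    rintro ⟨x, y⟩ ⟨x', y'⟩ e
    have e' : x • f₁ + y • f₂ = x' • f₁ + y' • f₂ := e
    have : (x - x') • f₁ + (y - y') • f₂ = 0 := by
      have : (x - x') • f₁ + (y - y') • f₂ = (x • f₁ + y • f₂) - (x' • f₁ + y' • f₂) := by module
      rw [this, e', sub_self]
    obtain ⟨h1, h2⟩ := indep _ _ this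
    rw [sub_eq_zero.1 h1, sub_eq_zero.1 h2]
  have hc : Nat.card (ZMod p × ZMod p) = Nat.card V := by
    rw [Nat.card_prod, Nat.card_zmod, hcard, sq]
  have hbij : Function.Bijective f := (Nat.bijective_iff_injective_and_card f).2 ⟨hinj, hc⟩
  intro v
  obtain ⟨⟨x, y⟩, rfl⟩ := hbij.2 v
  exact ⟨x, y, rfl⟩

theorem shape {f₁ f₂ : V} (h : IsB p f₁ f₂) {τ : (V ≃ₗ[ZMod p] V)} (hτp : τ ^ p = 1) (hτ1 : τ ≠ 1)
    (hf : τ f₁ = f₁) : ∃ l : ZMod p, l ≠ 0 ∧ τ f₂ = f₂ + l • f₁ := by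
  obtain ⟨a, d, had⟩ := h.span (τ f₂)
  have hpow : ∀ s : ℕ, ∃ c : ZMod p, (τ ^ s) f₂ = c • f₁ + (d ^ s) • f₂ := by
    intro s
    induction s with
    | zero => exact ⟨0, by simp⟩
    | succ s ih =>
      obtain ⟨c, hc⟩ := ih
      refine ⟨c + d ^ s * a, ?_⟩
      rw [pow_succ', LinearEquiv.mul_apply, hc, map_add, map_smul, map_smul, hf, had]
      module
  obtain ⟨c, hc⟩ := hpow p
  rw [hτp, one_app, ZMod.pow_card] at hc
  have hd : d = 1 := by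
    have : (0 : ZMod p) • f₁ + (1 : ZMod p) • f₂ = c • f₁ + d • f₂ := by
      rw [← hc]; module
    exact (h.eq this).2.symm
  subst hd
  refine ⟨a, ?_, by rw [had]; module⟩
  rintro rfl
  apply hτ1
  apply h.ext
  · rw [hf, one_app]
  · rw [had, one_app]; module

theorem pow_shape {f₁ f₂ : V} {τ : (V ≃ₗ[ZMod p] V)} {l : ZMod p} (hf : τ f₁ = f₁)
    (h2 : τ f₂ = f₂ + l • f₁) (s : ℕ) :
    (τ ^ s) f₁ = f₁ ∧ (τ ^ s) f₂ = f₂ + ((s : ZMod p) * l) • f₁ := by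
  induction s with
  | zero => simp
  | succ s ih =>
    obtain ⟨i1, i2⟩ := ih
    constructor
    · rw [pow_succ', LinearEquiv.mul_apply, i1, hf]
    · rw [pow_succ', LinearEquiv.mul_apply, i2, map_add, map_smul, hf, h2]
      push_cast
      module

theorem exists_u {f₁ f₂ : V} {τ : (V ≃ₗ[ZMod p] V)} {l : ZMod p} (hl : l ≠ 0) (hf : τ f₁ = f₁)
    (h2 : τ f₂ = f₂ + l • f₁) (t : ZMod p) :
    ∃ u ∈ Subgroup.zpowers τ, u f₁ = f₁ ∧ u f₂ = f₂ + t • f₁ := by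
  refine ⟨τ ^ (t / l).val, Subgroup.pow_mem _ (Subgroup.mem_zpowers τ) _, ?_⟩
  obtain ⟨i1, i2⟩ := pow_shape hf h2 (t / l).val
  refine ⟨i1, ?_⟩
  rw [i2, ZMod.natCast_zmod_val, div_mul_cancel₀ _ hl]

theorem core [Finite V] (hcard : Nat.card V = p ^ 2) (B : Subgroup (V ≃ₗ[ZMod p] V)) (σ : (V ≃ₗ[ZMod p] V))
    (hσ : σ ∈ B) (hσ1 : σ ≠ 1) (hσp : σ ^ p = 1)
    (hirr : ∀ e : V, e ≠ 0 → ∃ β ∈ B, ∀ c : ZMod p, β e ≠ c • e) :
    ∃ e₁ e₂ : V, e₁ ≠ 0 ∧ σ e₁ = e₁ ∧ σ e₂ ≠ e₂ ∧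
      ∀ m n : ZMod p, m * n = 1 → ∃ δ ∈ B, δ e₁ = m • e₁ ∧ δ e₂ = n • e₂ ∧
        δ * σ * δ⁻¹ ∈ Subgroup.zpowers σ := by
  -- a fixed vector
  have hP : IsPGroup p (Subgroup.zpowers σ) :=
    IsPGroup.of_card (n := 1) (by rw [Nat.card_zpowers, orderOf_eq_prime hσp hσ1, pow_one])
  obtain ⟨e₁, he₁, h0⟩ := hP.exists_fixed_point_of_prime_dvd_card_of_fixed_point (α := V)
    (by rw [hcard]; exact dvd_pow_self p two_ne_zero) (a := 0)
    (by intro g; exact map_zero (g : (V ≃ₗ[ZMod p] V)))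
  have hf1 : σ e₁ = e₁ := he₁ ⟨σ, Subgroup.mem_zpowers σ⟩
  have he₁0 : e₁ ≠ 0 := fun h => h0 h.symm
  obtain ⟨β, hβ, hβe⟩ := hirr e₁ he₁0
  obtain ⟨e₂, he₂⟩ : ∃ e₂, e₂ = β e₁ := ⟨_, rfl⟩
  have hB : IsB p e₁ e₂ := isB_of hcard he₁0 (by rw [he₂]; exact hβe)
  obtain ⟨l, hl, hσ2⟩ := shape hB hσp hσ1 hf1
  -- the opposite transvection
  obtain ⟨σ', hσ'⟩ : ∃ σ', σ' = β * σ * β⁻¹ := ⟨_, rfl⟩
  have hσ'B : σ' ∈ B := by rw [hσ']; exact B.mul_mem (B.mul_mem hβ hσ) (B.inv_mem hβ)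
  have hσ'p : σ' ^ p = 1 := by rw [hσ', conj_pow, hσp, mul_one, mul_inv_cancel]
  have hσ'1 : σ' ≠ 1 := by
    rw [hσ']
    intro h
    apply hσ1
    have := congrArg (fun x => β⁻¹ * x * β) h
    simpa [mul_assoc] using this
  have hf2 : σ' e₂ = e₂ := by
    rw [hσ', he₂, LinearEquiv.mul_apply, LinearEquiv.mul_apply, inv_app_self, hf1]
  obtain ⟨k, hk, hσ'1e⟩ := shape hB.symm hσ'p hσ'1 hf2
  refine ⟨e₁, e₂, he₁0, hf1, ?_, ?_⟩
  · rw [hσ2]
    intro h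
    have : l • e₁ = 0 := by simpa using h
    exact ((smul_eq_zero.1 this).elim hl he₁0)
  intro m n hmn
  have hzB : Subgroup.zpowers σ ≤ B := by rwa [Subgroup.zpowers_le]
  have hzB' : Subgroup.zpowers σ' ≤ B := by rwa [Subgroup.zpowers_le]
  obtain ⟨u1, hu1, u11, u12⟩ := exists_u hl hf1 hσ2 m
  obtain ⟨u2, hu2, u21, u22⟩ := exists_u hl hf1 hσ2 (-1)
  obtain ⟨v1, hv1, v12, v11⟩ := exists_u hk hf2 hσ'1e (-n)
  obtain ⟨v2, hv2, v22, v21⟩ := exists_u hk hf2 hσ'1e 1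
  have w21 : (u2 * v2 * u2) e₁ = e₂ := by
    simp only [LinearEquiv.mul_apply, map_add, map_smul, u21, u22, v21]
    module
  have w22 : (u2 * v2 * u2) e₂ = (-1 : ZMod p) • e₁ := by
    simp only [LinearEquiv.mul_apply, map_add, map_smul, u21, u22, v21, v22]
    module
  have w12 : (u1 * v1 * u1) e₂ = m • e₁ := by
    simp only [LinearEquiv.mul_apply, map_add, map_smul, u11, u12, v11, v12]
    linear_combination (norm := module) (-hmn) • e₂ + (-m * hmn) • e₁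
  have w11 : (u1 * v1 * u1) e₁ = (-n) • e₂ := by
    simp only [LinearEquiv.mul_apply, map_add, map_smul, u11, u12, v11]
    linear_combination (norm := module) (-hmn) • e₁
  have hδ1 : (u1 * v1 * u1 * (u2 * v2 * u2)) e₁ = m • e₁ := by
    rw [LinearEquiv.mul_apply, w21, w12]
  have hδ2 : (u1 * v1 * u1 * (u2 * v2 * u2)) e₂ = n • e₂ := by
    rw [LinearEquiv.mul_apply, w22, map_smul, w11]
    module
  refine ⟨u1 * v1 * u1 * (u2 * v2 * u2), ?_, hδ1, hδ2, ?_⟩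
  · exact B.mul_mem (B.mul_mem (B.mul_mem (hzB hu1) (hzB' hv1)) (hzB hu1))
      (B.mul_mem (B.mul_mem (hzB hu2) (hzB' hv2)) (hzB hu2))
  · obtain ⟨δ, hδ⟩ : ∃ δ, δ = u1 * v1 * u1 * (u2 * v2 * u2) := ⟨_, rfl⟩
    rw [← hδ] at hδ1 hδ2 ⊢
    obtain ⟨i1, i2⟩ := pow_shape hf1 hσ2 (m * m).val
    rw [ZMod.natCast_zmod_val] at i2
    have : δ * σ * δ⁻¹ = σ ^ (m * m).val := by
      rw [mul_inv_eq_iff_eq_mul]
      apply hB.ext
      · rw [LinearEquiv.mul_apply, LinearEquiv.mul_apply, hf1, hδ1, map_smul, i1]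
      · rw [LinearEquiv.mul_apply, LinearEquiv.mul_apply, hσ2, hδ2, map_add, map_smul, map_smul,
          hδ1, hδ2, i2]
        linear_combination (norm := module) (-(m * l) * hmn) • e₁
    rw [this]
    exact Subgroup.pow_mem _ (Subgroup.mem_zpowers σ) _

end core

section transfer

variable {W : Type*} [CommGroup W] {p : ℕ} [hp : Fact p.Prime]

/-- the linear automorphism of `Additive W` induced by an automorphism of `W`. -/
def rho [Module (ZMod p) (Additive W)] : MulAut W →* (Additive W ≃ₗ[ZMod p] Additive W) where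
  toFun α := (MulEquiv.toAdditive α).toLinearEquiv (fun c x => ZMod.map_smul _ c x)
  map_one' := rfl
  map_mul' _ _ := rfl

theorem rho_apply [Module (ZMod p) (Additive W)] (α : MulAut W) (v : Additive W) :
    rho (p := p) α v = Additive.ofMul (α v.toMul) := rfl

theorem rho_injective [Module (ZMod p) (Additive W)] :
    Function.Injective (rho (p := p) (W := W)) := by
  intro α β h
  ext w
  exact congrArg Additive.toMul (LinearEquiv.congr_fun h (Additive.ofMul w))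

theorem exists_diag_comm [Finite W] (hcard : Nat.card W = p ^ 2) (hexp : ∀ x : W, x ^ p = 1)
    (B : Subgroup (MulAut W)) (σ : MulAut W) (hσ : σ ∈ B) (hσ1 : σ ≠ 1) (hσp : σ ^ p = 1)
    (hirr : ∀ L : Subgroup W, Nat.card L = p → ∃ β ∈ B, ∃ x ∈ L, β x ∉ L) :
    ∃ e₁ e₂ : W, e₁ ≠ 1 ∧ σ e₁ = e₁ ∧ σ e₂ ≠ e₂ ∧
      ∀ m n : ℕ, m * n ≡ 1 [MOD p] → ∃ δ ∈ B, δ e₁ = e₁ ^ m ∧ δ e₂ = e₂ ^ n ∧
        δ * σ * δ⁻¹ ∈ Subgroup.zpowers σ := by
  letI : Module (ZMod p) (Additive W) := AddCommGroup.zmodModule (n := p)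
    (fun x => congrArg Additive.ofMul (hexp x.toMul))
  have hsm : ∀ (k : ℕ) (e : Additive W), ((k : ZMod p) • e).toMul = e.toMul ^ k := by
    intro k e
    rw [Nat.cast_smul_eq_nsmul]
    rfl
  have hirr' : ∀ e : Additive W, e ≠ 0 → ∃ β ∈ B.map (rho (p := p)), ∀ c : ZMod p,
      β e ≠ c • e := by
    intro e he
    have he1 : e.toMul ≠ 1 := fun h => he (congrArg Additive.ofMul h)
    obtain ⟨β, hβ, x, hx, hxL⟩ := hirr (Subgroup.zpowers e.toMul)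
      (by rw [Nat.card_zpowers, orderOf_eq_prime (hexp _) he1])
    refine ⟨rho β, ⟨β, hβ, rfl⟩, fun c hc => hxL ?_⟩
    obtain ⟨i, rfl⟩ := Subgroup.mem_zpowers_iff.1 hx
    rw [map_zpow]
    apply Subgroup.zpow_mem
    have h1 : β e.toMul = (c • e).toMul := congrArg Additive.toMul hc
    rw [← ZMod.natCast_zmod_val c, hsm] at h1
    rw [h1]
    exact Subgroup.pow_mem _ (Subgroup.mem_zpowers _) _
  obtain ⟨e₁, e₂, h1, h2, h3, h4⟩ := core (p := p) (V := Additive W) hcard (B.map (rho (p := p)))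
    (rho σ) ⟨σ, hσ, rfl⟩ (fun h => hσ1 (rho_injective (h.trans (map_one _).symm)))
    (by rw [← map_pow, hσp, map_one]) hirr'
  refine ⟨e₁.toMul, e₂.toMul, fun h => h1 (congrArg Additive.ofMul h),
    congrArg Additive.toMul h2, fun h => h3 (congrArg Additive.ofMul h), ?_⟩
  intro m n hmn
  have hmn' : (m : ZMod p) * (n : ZMod p) = 1 := by
    have := (ZMod.natCast_eq_natCast_iff _ _ _).2 hmn
    push_cast at this
    exact this
  obtain ⟨_, ⟨δ, hδ, rfl⟩, d1, d2, d3⟩ := h4 m n hmn'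
  refine ⟨δ, hδ, ?_, ?_, ?_⟩
  · rw [← hsm]; exact congrArg Additive.toMul d1
  · rw [← hsm]; exact congrArg Additive.toMul d2
  · obtain ⟨k, hk⟩ := Subgroup.mem_zpowers_iff.1 d3
    rw [Subgroup.mem_zpowers_iff]
    refine ⟨k, rho_injective (p := p) ?_⟩
    rw [map_zpow, hk, map_mul, map_mul, map_inv]

end transfer

/-- RUNG G1 -/
theorem exists_diag {W : Type*} [Group W] [Finite W] {p : ℕ} [Fact p.Prime]
    (hcard : Nat.card W = p ^ 2) (hexp : ∀ x : W, x ^ p = 1)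
    (B : Subgroup (MulAut W)) (σ : MulAut W) (hσ : σ ∈ B) (hσ1 : σ ≠ 1) (hσp : σ ^ p = 1)
    (hirr : ∀ L : Subgroup W, Nat.card L = p → ∃ β ∈ B, ∃ x ∈ L, β x ∉ L) :
    ∃ e₁ e₂ : W, e₁ ≠ 1 ∧ σ e₁ = e₁ ∧ σ e₂ ≠ e₂ ∧
      ∀ m n : ℕ, m * n ≡ 1 [MOD p] → ∃ δ ∈ B, δ e₁ = e₁ ^ m ∧ δ e₂ = e₂ ^ n ∧
        δ * σ * δ⁻¹ ∈ Subgroup.zpowers σ := by
  have hcomm : ∀ x y : W, x * y = y * x := IsPGroup.commutative_of_card_eq_prime_sq hcard
  letI : CommGroup W := { (inferInstance : Group W) with mul_comm := hcomm }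
  exact exists_diag_comm hcard hexp B σ hσ hσ1 hσp hirr

end Cfsg.Agent.Lib.Helper64.Rank2G1
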