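import Cfsg.Agent.Lib.Helper86.Rank2Chain
import Cfsg.Agent.Lib.Helper89.OddStab
import Cfsg.Agent.S0120
import Cfsg.Agent.S5187
import Cfsg.Agent.Lib.Helper16.Ess.Rank2
import Cfsg.Agent.Lib.Helper64.Rank2G1

set_option autoImplicit false

/-! Rung F-alpha of the rank two ladder: an essential subgroup whose elements of order dividing `p`
form a central subgroup of order `p ^ 2` has order `p ^ 2` (for `p ≥ 5`). -/

namespace Cfsg.Agent.Lib.Helper64.Rank2FAlpha

open Cfsg Cfsg.FusionSystem Cfsg.Agent.Lib Cfsg.Agent.Lib.Helper86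

/-- powers of an automorphism inverting `x` -/
theorem pow_apply_inv {P : Type*} [Group P] (δ : MulAut P) (x : P) (hx : δ x = x⁻¹) (m : ℕ)
    (hm : Odd m) : (δ ^ m) x = x⁻¹ := by
  have h2 : ∀ j : ℕ, (δ ^ (2 * j)) x = x := by
    intro j
    induction j with
    | zero => simp
    | succ j ih =>
      rw [show 2 * (j + 1) = 2 * j + 1 + 1 by ring, pow_succ, pow_succ, MulAut.mul_apply,
        MulAut.mul_apply, hx, map_inv, hx, inv_inv, ih]
  obtain ⟨j, rfl⟩ := hm
  rw [pow_succ, MulAut.mul_apply, hx, map_inv, h2]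

/-- A finite `p`-group, `p` odd, with an automorphism inverting all elements of order dividing `p`
is commutative. -/
theorem comm_of_invert {P : Type*} [Group P] [Finite P] {p : ℕ} [hp : Fact p.Prime] (hp2 : p ≠ 2)
    (hP : IsPGroup p P) (δ : MulAut P) (hδ : ∀ x : P, x ^ p = 1 → δ x = x⁻¹) :
    ∀ a b : P, a * b = b * a := by
  have hodd : Odd p := hp.out.odd_of_ne_two hp2
  have ho : orderOf δ ≠ 0 := (orderOf_pos δ).ne'
  obtain ⟨k, m, hm, hkm⟩ := Nat.exists_eq_pow_mul_and_not_dvd ho p hp.out.ne_one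
  set δ₁ : MulAut P := δ ^ (p ^ k) with hδ₁
  have hδ₁m : δ₁ ^ m = 1 := by
    rw [hδ₁, ← pow_mul, ← hkm, pow_orderOf_eq_one]
  have hinv : ∀ x : P, x ^ p = 1 → δ₁ x = x⁻¹ := fun x hx =>
    pow_apply_inv δ x (hδ x hx) _ hodd.pow
  have hsq : δ₁ ^ 2 = 1 := by
    apply Cfsg.Agent.S0120.result hp2 hP
    · have h1 : orderOf (δ₁ ^ 2) ∣ m := by
        apply orderOf_dvd_of_pow_eq_one
        rw [← pow_mul, mul_comm, pow_mul, hδ₁m, one_pow]
      exact Nat.Coprime.coprime_dvd_left h1 ((Nat.Prime.coprime_iff_not_dvd hp.out).2 hm).symm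
    · intro x hx
      rw [pow_two, MulAut.mul_apply, hinv x hx, map_inv, hinv x hx, inv_inv]
  have hinvol : Function.Involutive δ₁ := by
    intro x
    have := congrArg (fun f : MulAut P => f x) hsq
    simpa [pow_two] using this
  have hfpf : MonoidHom.FixedPointFree δ₁ := by
    intro y hy
    by_contra hy1
    obtain ⟨j, hj⟩ := IsPGroup.iff_orderOf.1 hP y
    have hj0 : j ≠ 0 := by
      rintro rfl
      rw [pow_zero, orderOf_eq_one_iff] at hj
      exact hy1 hj
    obtain ⟨i, rfl⟩ := Nat.exists_eq_succ_of_ne_zero hj0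
    set z : P := y ^ (p ^ i) with hz
    have hzp : z ^ p = 1 := by
      rw [hz, ← pow_mul, ← pow_succ, ← hj, pow_orderOf_eq_one]
    have hz1 : z ≠ 1 := by
      intro h
      have h1 := orderOf_dvd_of_pow_eq_one h
      rw [hj, Nat.pow_dvd_pow_iff_le_right hp.out.one_lt] at h1
      omega
    have hfix : δ₁ z = z := by rw [hz, map_pow, hy]
    have h3 : z = z⁻¹ := by rw [← hinv z hzp, hfix]
    have h4 : z ^ 2 = 1 := by
      rw [pow_two]
      nth_rewrite 1 [h3]
      exact inv_mul_cancel z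
    obtain ⟨t, ht⟩ := hodd
    rw [ht, pow_succ, pow_mul, h4, one_pow, one_mul] at hzp
    exact hz1 hzp
  intro a b
  exact (hfpf.commute_all_of_involutive hinvol a b)

theorem index_frattini_comm {P : Type*} [CommGroup P] [Finite P] {p : ℕ} [hp : Fact p.Prime]
    (hP : IsPGroup p P) (D : Subgroup P) (hD : ∀ x : P, x ∈ D ↔ x ^ p = 1) :
    (frattini P).index = Nat.card D := by
  rw [Helper16.Ess.frattini_eq_range hP]
  have hker : (powMonoidHom p : P →* P).ker = D := by
    ext x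
    rw [MonoidHom.mem_ker, hD]
    rfl
  have h1 := (powMonoidHom p : P →* P).range.card_mul_index
  have h2 := (powMonoidHom p : P →* P).ker.card_mul_index
  rw [Subgroup.index_ker, hker] at h2
  rw [← h2, mul_comm] at h1
  exact Nat.eq_of_mul_eq_mul_right Nat.card_pos h1

theorem index_frattini {P : Type*} [Group P] [Finite P] {p : ℕ} [hp : Fact p.Prime]
    (hcomm : ∀ a b : P, a * b = b * a)
    (hP : IsPGroup p P) (D : Subgroup P) (hD : ∀ x : P, x ∈ D ↔ x ^ p = 1) :
    (frattini P).index = Nat.card D := by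
  let _ : CommGroup P := { (inferInstance : Group P) with mul_comm := hcomm }
  exact index_frattini_comm hP D hD

/-- The group of automorphisms of `D` induced by `A`. -/
def resGroup {P : Type*} [Group P] (A : Subgroup (MulAut P)) (D : Subgroup P) :
    Subgroup (MulAut D) where
  carrier := {β | ∃ α ∈ A, ∀ x : D, ((β x : D) : P) = α x}
  one_mem' := ⟨1, A.one_mem, fun _ => rfl⟩
  mul_mem' := by
    rintro β₁ β₂ ⟨α₁, h₁, e₁⟩ ⟨α₂, h₂, e₂⟩
    refine ⟨α₁ * α₂, A.mul_mem h₁ h₂, fun x => ?_⟩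
    rw [MulAut.mul_apply, MulAut.mul_apply, e₁, e₂]
  inv_mem' := by
    rintro β ⟨α, h, e⟩
    refine ⟨α⁻¹, A.inv_mem h, fun x => ?_⟩
    have := e (β⁻¹ x)
    rw [MulAut.apply_inv_self] at this
    rw [this, MulAut.inv_apply_self]

theorem mem_resGroup {P : Type*} [Group P] {A : Subgroup (MulAut P)} {D : Subgroup P}
    {β : MulAut D} : β ∈ resGroup A D ↔ ∃ α ∈ A, ∀ x : D, ((β x : D) : P) = α x := Iff.rfl

/-- In a group of order `p ^ 2`, a subgroup containing `e₁ ≠ 1` and some `e₂` outside the powers of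
`e₁` is everything. -/
theorem eq_top_of_two {W : Type*} [Group W] [Finite W] {p : ℕ} [hp : Fact p.Prime]
    (hcard : Nat.card W = p ^ 2) (T : Subgroup W) {e₁ e₂ : W} (h1 : e₁ ≠ 1) (he₁ : e₁ ∈ T)
    (he₂ : e₂ ∈ T) (hne : e₂ ∉ Subgroup.zpowers e₁) : T = ⊤ := by
  have hd : Nat.card T ∣ p ^ 2 := hcard ▸ T.card_subgroup_dvd_card
  obtain ⟨i, hi, hc⟩ := (Nat.dvd_prime_pow hp.out).1 hd
  have hle : Subgroup.zpowers e₁ ≤ T := (Subgroup.zpowers_le).2 he₁
  have hlt : Subgroup.zpowers e₁ < T := lt_of_le_of_ne hle (fun h => hne (h ▸ he₂))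
  have hc1 : 1 < Nat.card (Subgroup.zpowers e₁) := by
    rw [Nat.card_zpowers]
    have h0 := orderOf_pos e₁
    have h2 : orderOf e₁ ≠ 1 := fun h => h1 (orderOf_eq_one_iff.1 h)
    omega
  have hc2 : Nat.card (Subgroup.zpowers e₁) < Nat.card T := by
    by_contra hcon
    exact hlt.ne (Subgroup.eq_of_le_of_card_ge hle (not_lt.1 hcon))
  have hd1 : Nat.card (Subgroup.zpowers e₁) ∣ p ^ 2 :=
    hcard ▸ (Subgroup.zpowers e₁).card_subgroup_dvd_card
  obtain ⟨a, ha, hca⟩ := (Nat.dvd_prime_pow hp.out).1 hd1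
  rw [hca] at hc1 hc2
  rw [hc] at hc2
  have ha0 : a ≠ 0 := by
    rintro rfl
    simp at hc1
  have hai : a < i := (Nat.pow_lt_pow_iff_right hp.out.one_lt).1 hc2
  have hi2 : i = 2 := by omega
  apply Subgroup.eq_top_of_card_eq
  rw [hc, hi2, hcard]

variable {Ω : Type*} [Group Ω] {S : Subgroup Ω}

theorem conjAut_pow_apply (E : Subgroup Ω) (c : Ω) (hc : c ∈ Subgroup.normalizer (E : Set Ω))
    (m : ℕ) (x : E) : (((conjAut E c hc) ^ m) x : Ω) = c ^ m * x * (c ^ m)⁻¹ := by
  induction m generalizing x with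
  | zero => simp
  | succ m ih =>
    rw [pow_succ, MulAut.mul_apply, ih, conjAut_apply, pow_succ]
    group

theorem card_of_central [Finite S] {p : ℕ} [Fact p.Prime] (hS : IsPGroup p S)
    (F : FusionSystem S) (hF : F.IsSaturated p) (hp : 5 ≤ p) {E : Subgroup Ω}
    (hE : F.IsEssential p E) (D : Subgroup ↥E) (hDchar : D.Characteristic)
    (hDc : Nat.card D = p ^ 2) (hDZ : D ≤ Subgroup.center ↥E)
    (hDall : ∀ x : ↥E, x ^ p = 1 → x ∈ D) : Nat.card E = p ^ 2 := by
  have hpp : p.Prime := Fact.out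
  have : Finite E := finite_of_le hE.1.1
  have hEp : IsPGroup p E := hS.to_le hE.1.1
  have hp2 : p ≠ 2 := by omega
  have hDinv : ∀ α : MulAut E, ∀ x ∈ D, α x ∈ D := by
    intro α x hx
    have h1 := hDchar.fixed α
    rw [← h1] at hx
    exact hx
  have hfaith : ∀ a ∈ F.autGroup E, (orderOf a).Coprime p → (∀ x ∈ D, a x = x) → a = 1 :=
    fun a _ ha h => Cfsg.Agent.S0120.result hp2 hEp a ha (fun x hx => h x (hDall x hx))
  have hnoL : ∀ L : Subgroup E, L ≤ D → Nat.card L = p →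
      (∀ α ∈ F.autGroup E, ∀ x ∈ L, α x ∈ L) → False := by
    intro L hLD hLc hLinv
    refine Helper86.Rank2.no_prime_chain hS F hF hE 2
      (fun i => if i = 0 then ⊥ else if i = 1 then L else D) (by simp) ?_ ?_ ?_
    · intro i α hα x hx
      by_cases h0 : i = 0
      · simp only [h0, if_true, Subgroup.mem_bot] at hx ⊢
        rw [hx, map_one]
      · by_cases h1 : i = 1
        · simp only [h1, if_true, one_ne_zero, if_false] at hx ⊢
          exact hLinv α hα x hx
        · simp only [h0, h1, if_false] at hx ⊢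
          exact hDinv α x hx
    · simpa using hfaith
    · intro i hi
      interval_cases i
      · simp [hLc]
      · simp [hLD, hLc, hDc, pow_two]
  -- `D` has exponent `p`
  have hexp : ∀ x ∈ D, x ^ p = 1 := by
    by_contra hcon
    push Not at hcon
    obtain ⟨x₀, hx₀D, hx₀⟩ := hcon
    let K : Subgroup E :=
      { carrier := {x | x ∈ D ∧ x ^ p = 1}
        one_mem' := ⟨D.one_mem, one_pow _⟩
        mul_mem' := by
          rintro x y ⟨hx, hxp⟩ ⟨hy, hyp⟩
          refine ⟨D.mul_mem hx hy, ?_⟩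
          have hc : Commute x y := (Subgroup.mem_center_iff.1 (hDZ hx) y).symm
          rw [hc.mul_pow, hxp, hyp, one_mul]
        inv_mem' := by
          rintro x ⟨hx, hxp⟩
          exact ⟨D.inv_mem hx, by rw [inv_pow, hxp, inv_one]⟩ }
    have hKD : K ≤ D := fun x hx => hx.1
    have hd : Nat.card K ∣ p ^ 2 := hDc ▸ Subgroup.card_dvd_of_le hKD
    obtain ⟨i, hi, hc⟩ := (Nat.dvd_prime_pow hpp).1 hd
    have hi2 : i ≠ 2 := by
      rintro rfl
      have : K = D := Subgroup.eq_of_le_of_card_ge hKD (by rw [hc, hDc])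
      rw [← this] at hx₀D
      exact hx₀ hx₀D.2
    have hi0 : i ≠ 0 := by
      rintro rfl
      rw [pow_zero, Subgroup.card_eq_one] at hc
      obtain ⟨z, hz⟩ := exists_prime_orderOf_dvd_card' (G := D) p (by rw [hDc]; exact Dvd.intro_left _ (pow_two p).symm)
      have hzK : (z : E) ∈ K := by
        refine ⟨z.2, ?_⟩
        have := pow_orderOf_eq_one z
        rw [hz] at this
        simpa using congrArg Subtype.val this
      rw [hc, Subgroup.mem_bot] at hzK
      have hz1 : z = 1 := Subtype.ext hzK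
      rw [hz1, orderOf_one] at hz
      exact hpp.one_lt.ne hz
    have hi1 : i = 1 := by omega
    refine hnoL K hKD (by rw [hc, hi1, pow_one]) ?_
    rintro α - x ⟨hx, hxp⟩
    exact ⟨hDinv α x hx, by rw [← map_pow, hxp, map_one]⟩
  -- an element of the normalizer
  obtain ⟨g, hgS, hgN, hgE⟩ := exists_normalizer_growth hS (Oliver.essential_lt hS hF hE)
  have hex : ∃ k : ℕ, g ^ (p ^ k) ∈ E := by
    obtain ⟨k, hk⟩ := hS ⟨g, hgS⟩
    refine ⟨k, ?_⟩
    have h1 : g ^ (p ^ k) = 1 := by simpa using congrArg Subtype.val hk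
    rw [h1]
    exact E.one_mem
  classical
  have hk : g ^ (p ^ (Nat.find hex)) ∈ E := Nat.find_spec hex
  have hk0 : Nat.find hex ≠ 0 := by
    intro h
    rw [h, pow_zero, pow_one] at hk
    exact hgE hk
  obtain ⟨j, hj⟩ := Nat.exists_eq_succ_of_ne_zero hk0
  have hjn : g ^ (p ^ j) ∉ E := Nat.find_min hex (by omega)
  obtain ⟨c, hc⟩ : ∃ c, c = g ^ (p ^ j) := ⟨_, rfl⟩
  have hcS : c ∈ S := hc ▸ S.pow_mem hgS _
  have hcN : c ∈ Subgroup.normalizer (E : Set Ω) := hc ▸ Subgroup.pow_mem _ hgN _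
  have hcE : c ∉ E := hc ▸ hjn
  have hcp : c ^ p ∈ E := by
    rw [hc, ← pow_mul, ← pow_succ, ← Nat.succ_eq_add_one, ← hj]
    exact hk
  have hσA : conjAut E c hcN ∈ F.autGroup E :=
    autInducedBy_le_autGroup F hE.1.1 (conjAut_mem_autInducedBy hcN hcS)
  obtain ⟨σ, hσ⟩ : ∃ σ, σ = Helper89.restrictAut (conjAut E c hcN) D (hDinv _) := ⟨_, rfl⟩
  have hσB : σ ∈ resGroup (F.autGroup E) D := ⟨_, hσA, fun x => by rw [hσ]; rfl⟩
  have hσ1 : σ ≠ 1 := by
    intro h
    apply hcE
    refine Helper86.Rank2.mem_of_stab hS F hF hE 1 (fun i => if i = 0 then ⊥ else D) (by simp)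
      ?_ (by simpa using hfaith) hcS hcN ?_
    · intro i α hα x hx
      by_cases h0 : i = 0
      · simp only [h0, if_true, Subgroup.mem_bot] at hx ⊢
        rw [hx, map_one]
      · simp only [h0, if_false] at hx ⊢
        exact hDinv α x hx
    · intro i hi x hx
      obtain rfl : i = 0 := by omega
      simp only [zero_add, one_ne_zero, if_false, if_true, Subgroup.mem_bot] at hx ⊢
      have h1 : conjAut E c hcN x = x := by
        have h2 := congrArg (fun f : MulAut D => ((f ⟨x, hx⟩ : D) : E)) h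
        rw [hσ] at h2
        exact h2
      rw [h1, inv_mul_cancel]
  have hσp : σ ^ p = 1 := by
    ext x
    rw [hσ, Helper89.restrictAut_pow_apply, conjAut_pow_apply]
    have h1 := Subgroup.mem_center_iff.1 (hDZ x.2) ⟨c ^ p, hcp⟩
    have h2 : c ^ p * ((x : E) : Ω) = ((x : E) : Ω) * c ^ p := congrArg Subtype.val h1
    rw [h2, mul_inv_cancel_right]
    rfl
  have hirr : ∀ L : Subgroup D, Nat.card L = p →
      ∃ β ∈ resGroup (F.autGroup E) D, ∃ x ∈ L, β x ∉ L := by
    intro L hL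
    by_contra hcon
    push Not at hcon
    refine hnoL (L.map D.subtype) ?_ ?_ ?_
    · rintro _ ⟨x, -, rfl⟩
      exact x.2
    · rw [Subgroup.card_map_of_injective D.subtype_injective, hL]
    · rintro α hα _ ⟨x, hx, rfl⟩
      refine ⟨Helper89.restrictAut α D (hDinv α) x, hcon _ ⟨α, hα, fun _ => rfl⟩ x hx, rfl⟩
  obtain ⟨e₁, e₂, he₁, hσe₁, hσe₂, hdiag⟩ := Rank2G1.exists_diag hDc
    (fun x => Subtype.ext (by simpa using hexp x x.2)) (resGroup (F.autGroup E) D) σ hσB hσ1 hσp hirr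
  obtain ⟨δ', ⟨δ, hδA, hδ⟩, hδ1, hδ2, -⟩ := hdiag (p - 1) (p - 1) (by
    obtain ⟨q, rfl⟩ : ∃ q, p = q + 2 := ⟨p - 2, by omega⟩
    have h1 : (q + 2 - 1) * (q + 2 - 1) = 1 + (q + 2) * q := by
      rw [show q + 2 - 1 = q + 1 by omega]
      ring
    rw [h1]
    unfold Nat.ModEq
    rw [Nat.add_mul_mod_self_left])
  have hexpD : ∀ x : D, x ^ p = 1 := fun x => Subtype.ext (by simpa using hexp x x.2)
  have hpm : ∀ x : D, x ^ (p - 1) = x⁻¹ := by
    intro x
    apply eq_inv_of_mul_eq_one_left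
    rw [← pow_succ, show p - 1 + 1 = p by omega, hexpD]
  rw [hpm] at hδ1 hδ2
  have hDcomm : ∀ x y : D, x * y = y * x := by
    intro x y
    apply Subtype.ext
    exact (Subgroup.mem_center_iff.1 (hDZ x.2) y).symm
  let T : Subgroup D :=
    { carrier := {x | δ' x = x⁻¹}
      one_mem' := by simp
      mul_mem' := by
        intro x y hx hy
        simp only [Set.mem_ofPred_eq] at hx hy ⊢
        rw [map_mul, hx, hy, mul_inv_rev, hDcomm]
      inv_mem' := by
        intro x hx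
        simp only [Set.mem_ofPred_eq] at hx ⊢
        rw [map_inv, hx] }
  have hT : T = ⊤ := by
    refine eq_top_of_two hDc T he₁ hδ1 hδ2 ?_
    intro hmem
    obtain ⟨n, rfl⟩ := Subgroup.mem_zpowers_iff.1 hmem
    apply hσe₂
    rw [map_zpow, hσe₁]
  have hinv : ∀ x : E, x ^ p = 1 → δ x = x⁻¹ := by
    intro x hx
    have h1 : (⟨x, hDall x hx⟩ : D) ∈ T := hT ▸ Subgroup.mem_top _
    have h2 : δ' ⟨x, hDall x hx⟩ = (⟨x, hDall x hx⟩ : D)⁻¹ := h1
    rw [← hδ ⟨x, hDall x hx⟩, h2]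
    rfl
  have hcomm := comm_of_invert hp2 hEp δ hinv
  have hidx := index_frattini hcomm hEp D (fun x => ⟨hexp x, hDall x⟩)
  rcases Cfsg.Agent.S5187.result p hS F hF E hE ⟨⟨hcomm⟩⟩ (by rw [hidx, hDc]) with h | h
  · exact h.2
  · omega

end Cfsg.Agent.Lib.Helper64.Rank2FAlpha
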