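import Cfsg.Agent.Lib.Helper86.Rank2Defs
import Cfsg.Agent.Lib.Helper26.Rank2G2
import Cfsg.Prelude.Def_CaseTheorems

set_option autoImplicit false

/-! Rung G10 of the rank two ladder. -/

namespace Cfsg.Agent.Lib.Helper64.Rank2G10

open Cfsg Cfsg.Agent.Lib Cfsg.Agent.Lib.Helper86.Rank2 Cfsg.Agent.Lib.Helper26.Rank2G2

/-- powers of two elements whose commutator `c` commutes with both. -/
theorem comm_pow_right {G : Type*} [Group G] (a b c : G) (h : a * b = c * (b * a))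
    (hcb : Commute c b) (m : ℕ) : a * b ^ m = c ^ m * (b ^ m * a) := by
  induction m with
  | zero => simp
  | succ m ih =>
    have h1 : Commute c (b ^ m) := hcb.pow_right m
    calc a * b ^ (m + 1) = (a * b ^ m) * b := by rw [pow_succ, mul_assoc]
      _ = c ^ m * b ^ m * (a * b) := by rw [ih]; simp only [mul_assoc]
      _ = c ^ m * (b ^ m * c) * (b * a) := by rw [h]; simp only [mul_assoc]
      _ = c ^ m * (c * b ^ m) * (b * a) := by rw [h1.eq]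
      _ = c ^ (m + 1) * (b ^ (m + 1) * a) := by rw [pow_succ, pow_succ]; simp only [mul_assoc]

theorem comm_pow_left {G : Type*} [Group G] (a b c : G) (h : a * b = c * (b * a))
    (hca : Commute c a) (n : ℕ) : a ^ n * b = c ^ n * (b * a ^ n) := by
  induction n with
  | zero => simp
  | succ n ih =>
    have h1 : Commute c (a ^ n) := hca.pow_right n
    calc a ^ (n + 1) * b = a ^ n * (a * b) := by rw [pow_succ, mul_assoc]
      _ = (a ^ n * c) * (b * a) := by rw [h]; simp only [mul_assoc]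
      _ = c * (a ^ n * b) * a := by rw [← h1.eq]; simp only [mul_assoc]
      _ = c * (c ^ n * (b * a ^ n)) * a := by rw [ih]
      _ = c ^ (n + 1) * (b * a ^ (n + 1)) := by rw [pow_succ', pow_succ]; simp only [mul_assoc]

theorem comm_pow {G : Type*} [Group G] (a b c : G) (h : a * b = c * (b * a))
    (hca : Commute c a) (hcb : Commute c b) (n m : ℕ) :
    a ^ n * b ^ m = c ^ (m * n) * (b ^ m * a ^ n) := by
  have h1 := comm_pow_right a b c h hcb m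
  have h2 := comm_pow_left a (b ^ m) (c ^ m) h1 (hca.pow_left m) n
  rw [h2, ← pow_mul]

theorem beta_weights {T : Type*} [Group T] [Finite T] {p : ℕ} [Fact p.Prime] (hp : p ≠ 2)
    (hT : IsPGroup p T) (hrk : Cfsg.PRankLE p 2 T)
    (D : Subgroup T) (hDn : D.Normal) (hDc : Nat.card D = p ^ 3) (hDe : ∀ x ∈ D, x ^ p = 1)
    (δ : MulAut T) (hδD : ∀ x ∈ D, δ x ∈ D) (m n : ℕ) (hmn : m * n ≡ 1 [MOD p])
    (d₁ d₂ c : T) (hd₁ : d₁ ∈ D) (hd₂ : d₂ ∈ D) (hd₁Z : ¬ CenD D d₁)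
    (h1 : CenD D ((d₁ ^ m)⁻¹ * δ d₁)) (h2 : CenD D ((d₂ ^ n)⁻¹ * δ d₂))
    (hc1 : CenD D (c * d₁ * c⁻¹ * d₁⁻¹)) (hc2 : ¬ CenD D (c * d₂ * c⁻¹ * d₂⁻¹)) :
    n ^ 2 ≡ 1 [MOD p] := by
  have hpp : p.Prime := Fact.out
  have hcfg := exists_cfg hT hrk D hDc hDe d₂ c hd₂ hc2
  -- the subgroup of elements of `D` fixed by `c` modulo the centre
  let W : Subgroup T :=
    { carrier := {x | x ∈ D ∧ c * x * c⁻¹ * x⁻¹ ∈ Z0 D}
      one_mem' := ⟨D.one_mem, by simp⟩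
      mul_mem' := by
        rintro x y ⟨hx, hxc⟩ ⟨hy, hyc⟩
        refine ⟨D.mul_mem hx hy, ?_⟩
        have h3 := hcfg.Zcen _ hyc x
        have h4 : c * (x * y) * c⁻¹ * (x * y)⁻¹
            = (c * x * c⁻¹ * x⁻¹) * ((x * (c * y * c⁻¹ * y⁻¹)) * x⁻¹) := by group
        rw [h4, ← h3, mul_inv_cancel_right]
        exact (Z0 D).mul_mem hxc hyc
      inv_mem' := by
        rintro x ⟨hx, hxc⟩
        refine ⟨D.inv_mem hx, ?_⟩
        have h3 := hcfg.Zcen _ ((Z0 D).inv_mem hxc) x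
        have h4 : c * x⁻¹ * c⁻¹ * x⁻¹⁻¹ = x⁻¹ * ((c * x * c⁻¹ * x⁻¹)⁻¹ * x) := by group
        rw [h4, h3, inv_mul_cancel_left]
        exact (Z0 D).inv_mem hxc }
  have hVW : V0 D ≤ W := fun x hx => ⟨hcfg.VD hx, hcfg.TV c x hx⟩
  have hWD : W ≤ D := fun x hx => hx.1
  have hd₂W : d₂ ∉ W := fun h => hc2 (mem_Z0.1 h.2)
  have hWV : W = V0 D := by
    by_contra hne
    have hlt : V0 D < W := lt_of_le_of_ne hVW (fun h => hne h.symm)
    have := eq_of_lt_of_le_of_card hT hlt hWD (by rw [hDc, hcfg.Vcard]; ring)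
    exact hd₂W (this ▸ hd₂)
  have hd₁V : d₁ ∈ V0 D := hWV ▸ (⟨hd₁, mem_Z0.2 hc1⟩ : d₁ ∈ W)
  -- the commutator
  obtain ⟨z, hz⟩ : ∃ z, z = d₂ * d₁ * d₂⁻¹ * d₁⁻¹ := ⟨_, rfl⟩
  have hzZ : z ∈ Z0 D := hz ▸ hcfg.TV d₂ d₁ hd₁V
  have hzc : ∀ g : T, Commute z g := fun g => hcfg.Zcen z hzZ g
  have hrel : d₂ * d₁ = z * (d₁ * d₂) := by rw [hz]; group
  have hz1 : z ≠ 1 := by
    intro h
    rw [h, one_mul] at hrel
    apply hd₁Z
    rw [← mem_Z0]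
    exact hcfg.ZD d₁ hd₁ (hcfg.gen d₁ hrel.symm (fun a ha => hcfg.Vcomm a ha d₁ hd₁V))
  have hzp : z ^ p = 1 := hDe z hzZ.1
  have hδz : δ z = z := by
    obtain ⟨z₁, hz₁⟩ : ∃ z₁, z₁ = (d₁ ^ m)⁻¹ * δ d₁ := ⟨_, rfl⟩
    obtain ⟨z₂, hz₂⟩ : ∃ z₂, z₂ = (d₂ ^ n)⁻¹ * δ d₂ := ⟨_, rfl⟩
    have hz₁c : ∀ g : T, z₁ * g = g * z₁ := hcfg.Zcen z₁ (hz₁ ▸ mem_Z0.2 h1)
    have hz₂c : ∀ g : T, z₂ * g = g * z₂ := hcfg.Zcen z₂ (hz₂ ▸ mem_Z0.2 h2)
    have e1 : δ d₁ = d₁ ^ m * z₁ := by rw [hz₁]; group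
    have e2 : δ d₂ = d₂ ^ n * z₂ := by rw [hz₂]; group
    have h3 := congrArg δ hrel
    rw [map_mul, map_mul, map_mul, e1, e2] at h3
    have h4 := comm_pow d₂ d₁ z hrel (hzc d₂) (hzc d₁) n m
    have h5 : d₂ ^ n * z₂ * (d₁ ^ m * z₁) = (d₂ ^ n * d₁ ^ m) * (z₂ * z₁) := by
      rw [mul_assoc, ← mul_assoc z₂, hz₂c (d₁ ^ m)]
      simp only [mul_assoc]
    have h6 : δ z * (d₁ ^ m * z₁ * (d₂ ^ n * z₂)) = δ z * (d₁ ^ m * d₂ ^ n) * (z₂ * z₁) := by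
      rw [mul_assoc (d₁ ^ m), ← mul_assoc z₁, hz₁c (d₂ ^ n), hz₂c z₁]
      simp only [mul_assoc]
    rw [h5, h6] at h3
    have h7 := mul_right_cancel h3
    rw [h4] at h7
    have h8 : z ^ (m * n) = δ z := by
      exact mul_right_cancel h7
    rw [← h8, pow_eq_pow_mod _ hzp, hmn, Nat.mod_eq_of_lt hpp.one_lt, pow_one]
  have hω : ∀ y, CenD D y → δ y = y ^ 1 := by
    intro y hy
    obtain ⟨k, rfl⟩ := hcfg.exists_zpow hzZ hz1 (mem_Z0.2 hy)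
    rw [map_zpow, hδz, pow_one]
  have hv : (d₂ ^ n)⁻¹ * δ d₂ ∈ Z0 D := mem_Z0.2 h2
  rcases weight_lemma hp hT hrk D hDn hDc hDe δ hδD 1 n hω d₂ ((d₂ ^ n)⁻¹ * δ d₂) c hd₂ hc2
    h2.1 (fun g => by
      have h3 := hcfg.Zcen _ hv g
      rw [← h3, mul_inv_cancel_right, mul_inv_cancel]
      exact ⟨D.one_mem, fun x _ => by rw [one_mul, mul_one]⟩) (by group) with h | h
  · exact h
  · exact h.symm

end Cfsg.Agent.Lib.Helper64.Rank2G10
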