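import Cfsg.Agent.Lib.Helper64.SSReal
import Cfsg.Agent.Lib.Helper64.SSFam
import Cfsg.Agent.Lib.Helper64.QDIso
import Cfsg.Agent.Lib.Helper64.CharChain
import Cfsg.Agent.Lib.Helper87.Solvable
import Cfsg.Agent.S5235
import Cfsg.Agent.S1896

/-! Metacyclic `p`-groups all of whose saturated fusion systems are supersoluble. -/

set_option autoImplicit false

namespace Cfsg.Agent.Lib.Helper64

open Cfsg Matrix
open scoped MatrixGroups

variable {Ω : Type*} [Group Ω] {S : Subgroup Ω}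

theorem not_type_of_sylow_iso [Finite S] (hS : IsPGroup 2 S) {G : Type*} [Group G] [Finite G]
    (T : Sylow 2 G) (e : S ≃* T) (hG : ¬ Cfsg.HasNormalPComplement 2 G) :
    ¬ ∀ F : FusionSystem S, F.IsSaturated 2 → IsSS F := by
  intro h
  apply hG
  refine npc_of_type hS ((T : Subgroup G).subtype.comp e.toMonoidHom) ?_ T ?_ h
  · exact (Subgroup.subtype_injective _).comp e.injective
  · rw [MonoidHom.range_comp, MonoidHom.range_eq_top.2 e.surjective, ← MonoidHom.range_eq_map,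
      Subgroup.range_subtype]

theorem exists_pow_of_mul_eq {c n a : ℕ} (hn : 2 ≤ n) (h : 2 ^ a = c * n) :
    ∃ e, n = 2 ^ (e + 1) := by
  have hdvd : n ∣ 2 ^ a := ⟨c, by rw [h]; ring⟩
  obtain ⟨j, -, rfl⟩ := (Nat.dvd_prime_pow Nat.prime_two).1 hdvd
  rcases j with _ | e
  · simp at hn
  · exact ⟨e, rfl⟩

theorem not_type_quat [Finite S] (hS : IsPGroup 2 S) {n : ℕ} (hn : 2 ≤ n)
    (E : S ≃* QuaternionGroup n) :
    ¬ ∀ F : FusionSystem S, F.IsSaturated 2 → IsSS F := by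
  have : Fact (Nat.Prime 2) := ⟨Nat.prime_two⟩
  have : NeZero n := ⟨by omega⟩
  obtain ⟨a, ha⟩ := hS.exists_card_eq
  have hc : Nat.card S = 4 * n := by
    rw [Nat.card_congr E.toEquiv, Nat.card_eq_fintype_card, QuaternionGroup.card]
  obtain ⟨e, rfl⟩ := exists_pow_of_mul_eq hn (ha.symm.trans hc)
  obtain ⟨q, w, u, hq, hw, hu, hqw, hwu⟩ := exists_prime_param e
  have : Fact q.Prime := ⟨hq⟩
  have hcard : Fintype.card (ZMod q) = 2 * w + 1 := by rw [ZMod.card, hqw]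
  obtain ⟨P⟩ : Nonempty (Sylow 2 (SpecialLinearGroup (Fin 2) (ZMod q))) := inferInstance
  obtain ⟨E'⟩ := sl2_quat hw hu hcard hwu P
  exact not_type_of_sylow_iso hS P (E.trans E'.symm) (sl2_not_npc ⟨w, hcard⟩)

theorem not_type_dih [Finite S] (hS : IsPGroup 2 S) {n : ℕ} (hn : 2 ≤ n)
    (E : S ≃* DihedralGroup n) :
    ¬ ∀ F : FusionSystem S, F.IsSaturated 2 → IsSS F := by
  have : Fact (Nat.Prime 2) := ⟨Nat.prime_two⟩
  obtain ⟨a, ha⟩ := hS.exists_card_eq
  have hc : Nat.card S = 2 * n := by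
    rw [Nat.card_congr E.toEquiv, DihedralGroup.nat_card]
  obtain ⟨e, rfl⟩ := exists_pow_of_mul_eq hn (ha.symm.trans hc)
  obtain ⟨q, w, u, hq, hw, hu, hqw, hwu⟩ := exists_prime_param e
  have : Fact q.Prime := ⟨hq⟩
  have hcard : Fintype.card (ZMod q) = 2 * w + 1 := by rw [ZMod.card, hqw]
  obtain ⟨T, ⟨E'⟩⟩ := psl2_dihedral hw hu hcard hwu
  exact not_type_of_sylow_iso hS T (E.trans E'.symm) (psl2_not_npc ⟨w, hcard⟩)

theorem not_type_qd [Finite S] (hS : IsPGroup 2 S) (h : Cfsg.IsQuasiDihedral S) :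
    ¬ ∀ F : FusionSystem S, F.IsSaturated 2 → IsSS F := by
  have : Fact (Nat.Prime 2) := ⟨Nat.prime_two⟩
  have h' := h
  obtain ⟨n, hn, hc, -⟩ := h'
  obtain ⟨e, rfl⟩ : ∃ e, n = e + 3 := ⟨n - 3, by omega⟩
  obtain ⟨q, w, u, hq, hw, hu, hqw, hwu⟩ := exists_prime_param e
  have : Fact q.Prime := ⟨hq⟩
  have hcard : Fintype.card (ZMod q) = 2 * w + 1 := by rw [ZMod.card, hqw]
  obtain ⟨P⟩ : Nonempty (Sylow 2 (GL (Fin 2) (ZMod q))) := inferInstance
  obtain ⟨hcP, hP⟩ := gl2_qd hw hu hcard hwu P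
  obtain ⟨E⟩ := qd_iso h hP (hc.trans hcP.symm)
  exact not_type_of_sylow_iso hS P E (gl2_not_npc ⟨w, hcard⟩)

theorem sChain_of_charChain {F : FusionSystem S} (hN : F.IsNormal S) {K : Subgroup S}
    (h : CharChain S K) : SChain F K := by
  induction h with
  | bot => exact SChain.bot
  | step g _ hc ih =>
    exact SChain.step g ih
      (sc_of_aut_invariant hN (fun α _ y hy => aut_mem_of_characteristic hc α hy))

theorem type_two_of_meta [Finite S] (hS : IsPGroup 2 S) (hm : Cfsg.IsMetacyclic S)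
    (hc : ¬ ∀ a b : S, a * b = b * a)
    (hd : ¬ ∃ n : ℕ, 2 ≤ n ∧ Nonempty (S ≃* DihedralGroup n)) (hqd : ¬ Cfsg.IsQuasiDihedral S)
    (hq : ¬ ∃ n : ℕ, 2 ≤ n ∧ Nonempty (S ≃* QuaternionGroup n)) :
    ∀ F : FusionSystem S, F.IsSaturated 2 → IsSS F := by
  have : Fact (Nat.Prime 2) := ⟨Nat.prime_two⟩
  have hd' : ¬ ∃ m : ℕ, Nonempty (S ≃* DihedralGroup m) := by
    rintro ⟨m, ⟨E⟩⟩
    rcases m with _ | _ | m
    · have : Finite (DihedralGroup 0) := Finite.of_equiv _ E.toEquiv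
      exact not_finite (DihedralGroup 0)
    · apply hc
      intro a b
      apply E.injective
      rw [map_mul, map_mul]
      exact (by decide : ∀ x y : DihedralGroup 1, x * y = y * x) _ _
    · exact hd ⟨m + 2, by omega, ⟨E⟩⟩
  have hq' : ¬ ∃ m : ℕ, Nonempty (S ≃* QuaternionGroup m) := by
    rintro ⟨m, ⟨E⟩⟩
    rcases m with _ | _ | m
    · have : Finite (DihedralGroup 0) := Finite.of_equiv _
        (E.trans QuaternionGroup.quaternionGroupZeroEquivDihedralGroupZero).toEquiv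
      exact not_finite (DihedralGroup 0)
    · apply hc
      intro a b
      apply E.injective
      rw [map_mul, map_mul]
      exact (by decide : ∀ x y : QuaternionGroup 1, x * y = y * x) _ _
    · exact hq ⟨m + 2, by omega, ⟨E⟩⟩
  have hA : IsPGroup 2 (MulAut S) := by
    by_contra hA
    rcases Cfsg.Agent.S1896.result hS hm hA with h | ⟨n, ⟨e⟩⟩
    · exact hq ⟨2, le_refl _, h⟩
    · apply hc
      intro a b
      apply e.injective
      rw [map_mul, map_mul, mul_comm]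
  rw [type_iff hS]
  refine ⟨fun F hF => Cfsg.Agent.S5235.result 2 hS F hF S
    (Cfsg.Agent.Lib.Helper87.stronglyClosed_top F) rfl hm hd' hq' hqd, fun H hH => ?_⟩
  have htriv : ∀ h ∈ H, h = 1 := by
    intro h hh
    obtain ⟨k, hk⟩ := hA h
    exact eq_one_of_pow_of_coprime hH hh hk
  refine ⟨⟨⟨fun a b => Subtype.ext ?_⟩⟩, fun h hh => by rw [htriv h hh, one_pow]⟩
  show (a : MulAut S) * b = b * a
  rw [htriv a a.2, htriv b b.2]

end Cfsg.Agent.Lib.Helper64
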